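import Groth.Agent.RedSub.H668.InnerRed
import Groth.Agent.Sga3B.CentRep

/-!
# Points of a torsor carrying a subgroup onto a given subgroup of the inner form

`X` a torsor under `G`, `G₁` the inner form, `i : T ⟶ G`, `t' : T' ⟶ G₁` subgroups.  `Adp γ i t' x`: the
isomorphism `G₁ ≅ G` defined by the point `x` carries `T'` onto `T`.
-/

set_option autoImplicit false
universe u

open CategoryTheory CategoryTheory.Limits MonoidalCategory CartesianMonoidalCategory MonObj GrpObj AlgebraicGeometry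
  Opposite
open Groth.Agent.Books.BorelOrb Groth.Agent.Sga3B.BcPts Groth.Agent.Sga3B.IsoFam

namespace Groth.Agent.RedSub.H668

variable {S : Scheme.{u}} {G X G₁ T T' : Over S} [GrpObj G] [GrpObj G₁]
  {a : AlgGrp.Action G X} {γ : X ⊗ G₁ ⟶ G} {i : T ⟶ G} {t' : T' ⟶ G₁}

/-- The isomorphism `G₁ ≅ G` defined by the point `x` of the torsor carries `T'` onto `T`. -/
def Adp (γ : X ⊗ G₁ ⟶ G) (i : T ⟶ G) (t' : T' ⟶ G₁) {Y : Over S} (x : Y ⟶ X) : Prop :=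
  ∀ (Y' : Over S) (f : Y' ⟶ Y),
    (∀ t : Y' ⟶ T, ∃ c : Y' ⟶ T', lift (f ≫ x) (c ≫ t') ≫ γ = t ≫ i) ∧
    (∀ c : Y' ⟶ T', ∃ t : Y' ⟶ T, lift (f ≫ x) (c ≫ t') ≫ γ = t ≫ i)

omit [GrpObj G] [GrpObj G₁] in
lemma Adp.comp {Y Y' : Over S} {x : Y ⟶ X} (h : Adp γ i t' x) (f : Y' ⟶ Y) : Adp γ i t' (f ≫ x) := by
  intro Y'' g
  have := h Y'' (g ≫ f)
  simpa only [Category.assoc] using this

/-- translates of adapted points by the normalizer are adapted -/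
lemma Adp.sm (hI : IsInner a G₁ γ) {Y : Over S} {x : Y ⟶ X} (h : Adp γ i t' x) {g : Y ⟶ G}
    (hg : RedSub.ConjEq i i g) : Adp γ i t' (sm a g x) := by
  intro Y' f
  constructor
  · intro t
    obtain ⟨s, hs⟩ := (hg Y' f).2 t
    obtain ⟨c, hc⟩ := (h Y' f).1 s
    refine ⟨c, ?_⟩
    rw [comp_sm, hI.eqv, hc, ← hs]
    group
  · intro c
    obtain ⟨s, hs⟩ := (h Y' f).2 c
    obtain ⟨t, ht⟩ := (hg Y' f).1 s
    refine ⟨t, ?_⟩
    rw [comp_sm, hI.eqv, hs, ht]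

/-- two adapted points differ by a point of the normalizer -/
lemma Adp.conjEq (ha : RedSub.IsTorsor a) (hI : IsInner a G₁ γ) {Y : Over S} {x y : Y ⟶ X}
    (hx : Adp γ i t' x) (hy : Adp γ i t' y) : RedSub.ConjEq i i (dif ha x y) := by
  intro Y' f
  have key : ∀ c : Y' ⟶ T', lift (f ≫ x) (c ≫ t') ≫ γ =
      (f ≫ dif ha x y) * (lift (f ≫ y) (c ≫ t') ≫ γ) * (f ≫ dif ha x y)⁻¹ := by
    intro c
    rw [← hI.eqv, ← comp_sm, sm_dif]
  constructor
  · intro t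
    obtain ⟨c, hc⟩ := (hy Y' f).1 t
    obtain ⟨s, hs⟩ := (hx Y' f).2 c
    exact ⟨s, by rw [← hc, ← key, hs]⟩
  · intro t
    obtain ⟨c, hc⟩ := (hx Y' f).1 t
    obtain ⟨s, hs⟩ := (hy Y' f).2 c
    refine ⟨s, ?_⟩
    rw [← hc, key, hs]
    group

/-- The closed subscheme of adapted points. -/
theorem exists_adp (hI : IsInner a G₁ γ) [Smooth T.hom] [GeometricallyIrreducible T.hom] [Smooth T'.hom]
    [GeometricallyIrreducible T'.hom] [IsClosedImmersion i.left] [IsClosedImmersion t'.left] :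
    ∃ (E : Over S) (z : E ⟶ X), IsClosedImmersion z.left ∧
      ∀ (Y : Over S) (x : Y ⟶ X), (∃ e : Y ⟶ E, e ≫ z = x) ↔ Adp γ i t' x := by
  obtain ⟨Z₁, z₁, hz₁, huniv₁, -⟩ := Sga3B.CentRep.exists_closed_map (X := X) (Q := T)
    (hI.pre (fst X T) (snd X T ≫ i)) t'
  obtain ⟨Z₂, z₂, hz₂, huniv₂, -⟩ := Sga3B.CentRep.exists_closed_map (X := X) (Q := T')
    (lift (fst X T') (snd X T' ≫ t') ≫ γ) i
  obtain ⟨Z, z, hz, huniv, -⟩ := Sga3B.CentRep.exists_inter z₁ z₂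
  refine ⟨Z, z, hz, fun Y x => ?_⟩
  rw [huniv, huniv₁, huniv₂, Adp, ← forall_and]
  refine forall_congr' fun Y' => ?_
  rw [← forall_and]
  refine forall_congr' fun f => ?_
  refine and_congr (forall_congr' fun t => ?_) (forall_congr' fun c => ?_)
  · refine exists_congr fun c => ?_
    have h1 : lift (f ≫ x) t ≫ hI.pre (fst X T) (snd X T ≫ i) = hI.pre (f ≫ x) (t ≫ i) := by
      rw [hI.comp_pre, lift_fst, ← Category.assoc, lift_snd]
    rw [h1]
    constructor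
    · intro e
      rw [e, hI.pre_spec]
    · intro e
      exact (hI.pre_eq e).symm
  · have h1 : lift (f ≫ x) c ≫ lift (fst X T') (snd X T' ≫ t') ≫ γ = lift (f ≫ x) (c ≫ t') ≫ γ := by
      rw [← Category.assoc, comp_lift, lift_fst, ← Category.assoc, lift_snd]
    rw [h1]
    exact exists_congr fun t => eq_comm

/-- morphisms into an object over `V₁` -/
lemma exists_lift_map {V₁ : Scheme.{u}} (v : V₁ ⟶ S) (K : Over V₁) {Y : Over S}
    (f : Y ⟶ (Over.map v).obj K) :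
    ∃ (Y' : Over V₁) (y' : Y' ⟶ K) (ε : (Over.map v).obj Y' ≅ Y), ε.hom ≫ f = (Over.map v).map y' := by
  refine ⟨Over.mk (f.left ≫ K.hom), Over.homMk f.left, Over.isoMk (Iso.refl _) ?_, ?_⟩
  · have := Over.w f
    simp only [Over.map_obj_hom] at this
    simp [this]
  · ext1
    exact Category.id_comp _

/-- the structure morphism of an object over `V₁` -/
noncomputable def stm {V₁ : Scheme.{u}} (v : V₁ ⟶ S) (K : Over V₁) : (Over.map v).obj K ⟶ Over.mk v :=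
  st (T := Over.mk v) K

lemma stm_comp {V₁ : Scheme.{u}} (v : V₁ ⟶ S) {K K' : Over V₁} (k : K' ⟶ K) :
    (Over.map v).map k ≫ stm v K = stm v K' := st_comp (T := Over.mk v) k

/-- the homomorphism `G₁ → G` over `V₁` -/
noncomputable def innHom (γ : X ⊗ G₁ ⟶ G) {V₁ : Scheme.{u}} {v : V₁ ⟶ S} (x₁ : Over.mk v ⟶ X) :
    Red.bc v G₁ ⟶ Red.bc v G := unfam (T := Over.mk v) (innFam γ x₁)

omit [GrpObj G] [GrpObj G₁] in
lemma symm_comp_innHom {V₁ : Scheme.{u}} {v : V₁ ⟶ S} (x₁ : Over.mk v ⟶ X) {K : Over V₁}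
    (p : K ⟶ Red.bc v G₁) : (bcEquiv v K G).symm (p ≫ innHom γ x₁) =
      lift (stm v K ≫ x₁) ((bcEquiv v K G₁).symm p) ≫ γ := by
  have h := comp_unfam (T := Over.mk v) (innFam γ x₁) (X := K) p
  have h2 : p ≫ innHom γ x₁ = bcEquiv v K G (lift ((bcEquiv v K G₁).symm p) (stm v K) ≫ innFam γ x₁) := h
  rw [h2, Equiv.symm_apply_apply, lift_innFam]

/-- an adapted point from a point of the torsor and a conjugating element -/
theorem adp_of_conjEq (hI : IsInner a G₁ γ) {V₁ : Scheme.{u}} (v : V₁ ⟶ S) (x₁ : Over.mk v ⟶ X)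
    {K : Over V₁} (g : K ⟶ Red.bc v G)
    (hg : RedSub.ConjEq ((Over.pullback v).map i) ((Over.pullback v).map t' ≫ innHom γ x₁) g) :
    Adp γ i t' (sm a ((bcEquiv v K G).symm g)⁻¹ (stm v K ≫ x₁)) := by
  intro Y f
  obtain ⟨Y', y', ε, hε⟩ := exists_lift_map v K f
  obtain ⟨g', hg'⟩ : ∃ g' : (Over.map v).obj K ⟶ G, (bcEquiv v K G).symm g = g' := ⟨_, rfl⟩
  rw [hg']
  -- the two computations on `(Over.map v).obj Y'`
  have h1 : ∀ (t : (Over.map v).obj Y' ⟶ T), (bcEquiv v Y' G).symm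
      ((y' ≫ g) * (bcEquiv v Y' T t ≫ (Over.pullback v).map i) * (y' ≫ g)⁻¹) =
        ((Over.map v).map y' ≫ g') * (t ≫ i) * ((Over.map v).map y' ≫ g')⁻¹ := by
    intro t
    change (bcMulEquiv v Y' G).symm _ = _
    rw [map_mul, map_mul, map_inv]
    change (bcEquiv v Y' G).symm _ * (bcEquiv v Y' G).symm _ * ((bcEquiv v Y' G).symm _)⁻¹ = _
    rw [comp_bcEquiv_symm, bcEquiv_symm_comp, Equiv.symm_apply_apply, hg']
  have h1' : ∀ (k : Y' ⟶ Red.bc v G), (bcEquiv v Y' G).symm ((y' ≫ g)⁻¹ * k * (y' ≫ g)) =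
        ((Over.map v).map y' ≫ g')⁻¹ * (bcEquiv v Y' G).symm k * ((Over.map v).map y' ≫ g') := by
    intro k
    change (bcMulEquiv v Y' G).symm _ = _
    rw [map_mul, map_mul, map_inv]
    change ((bcEquiv v Y' G).symm _)⁻¹ * (bcEquiv v Y' G).symm _ * ((bcEquiv v Y' G).symm _) = _
    rw [comp_bcEquiv_symm, hg']
  have h2 : ∀ (c : (Over.map v).obj Y' ⟶ T'), (bcEquiv v Y' G).symm
      (bcEquiv v Y' T' c ≫ (Over.pullback v).map t' ≫ innHom γ x₁) =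
        lift (stm v Y' ≫ x₁) (c ≫ t') ≫ γ := by
    intro c
    rw [← Category.assoc, symm_comp_innHom, bcEquiv_symm_comp, Equiv.symm_apply_apply]
  have h4 : ε.hom ≫ f ≫ sm a g'⁻¹ (stm v K ≫ x₁) =
      sm a ((Over.map v).map y' ≫ g')⁻¹ (stm v Y' ≫ x₁) := by
    rw [reassoc_of% hε, comp_sm, ← Category.assoc _ (stm v K), stm_comp, comp_inv]
  have h5 : ∀ c : (Over.map v).obj Y' ⟶ T', ε.hom ≫ lift (f ≫ sm a g'⁻¹ (stm v K ≫ x₁))
      ((ε.inv ≫ c) ≫ t') ≫ γ = ((Over.map v).map y' ≫ g')⁻¹ *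
        (lift (stm v Y' ≫ x₁) (c ≫ t') ≫ γ) * ((Over.map v).map y' ≫ g') := by
    intro c
    rw [← Category.assoc, comp_lift, h4, Category.assoc, Iso.hom_inv_id_assoc, hI.eqv, _root_.inv_inv]
  constructor
  · intro t
    obtain ⟨k, hk⟩ := (hg Y' y').1 (bcEquiv v Y' T (ε.hom ≫ t))
    obtain ⟨c, rfl⟩ := (bcEquiv v Y' T').surjective k
    refine ⟨ε.inv ≫ c, ?_⟩
    rw [← cancel_epi ε.hom, h5, ← h2 c, ← hk, h1]
    rw [Category.assoc]
    group
  · intro c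
    obtain ⟨k, hk⟩ := (hg Y' y').2 (bcEquiv v Y' T' (ε.hom ≫ c))
    obtain ⟨t, rfl⟩ := (bcEquiv v Y' T).surjective k
    refine ⟨ε.inv ≫ t, ?_⟩
    have h6 := h5 (ε.hom ≫ c)
    rw [Iso.inv_hom_id_assoc] at h6
    rw [← cancel_epi ε.hom, h6, ← h2, ← h1', hk, bcEquiv_symm_comp, Equiv.symm_apply_apply,
      Category.assoc, Iso.hom_inv_id_assoc]

end Groth.Agent.RedSub.H668
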