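import Groth.Agent.RedSub.H668.Adapt
import Groth.Agent.Redsub.H649.TorConjLoc

/-!
# Adapted points exist locally for the smooth topology
-/

set_option autoImplicit false
universe u

open CategoryTheory CategoryTheory.Limits MonoidalCategory CartesianMonoidalCategory MonObj GrpObj AlgebraicGeometry
  Opposite
open Groth.Agent.Books.BorelOrb Groth.Agent.Sga3B Groth.Agent.Sga3B.BcPts Groth.Agent.Sga3B.IsoFam

namespace Groth.Agent.RedSub.H668

variable {S : Scheme.{u}} {G X G₁ T T' : Over S} [GrpObj G] [GrpObj G₁] [GrpObj T] [GrpObj T']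
  {a : AlgGrp.Action G X} {γ : X ⊗ G₁ ⟶ G} {i : T ⟶ G} {t' : T' ⟶ G₁}

/-- adapted points for two maximal tori exist locally for the smooth topology -/
theorem exists_adp_point (ha : RedSub.IsTorsor a) (hI : IsInner a G₁ γ) (hG : Red.IsReductive G)
    (hi : Red.IsMaximalTorus i) (ht : Red.IsMaximalTorus t') (s : S) :
    ∃ (V : Scheme.{u}) (v : V ⟶ S), Smooth v ∧ s ∈ Set.range v ∧
      ∃ x₀ : Over.mk v ⟶ X, Adp γ i t' x₀ := by
  obtain ⟨V₁, v₁, s', x₁, hv₁, rfl⟩ := exists_etale_point ha hG.2.1 s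
  have hG₁ : Red.IsReductive G₁ := isReductive_of_inner ha hI hG
  obtain ⟨e, he⟩ := hI.exists_iso v₁ x₁
  have h1 := MaxTorBc636.isMaximalTorus_bc v₁ hG hi
  have h2 := MaxTorBc636.isMaximalTorus_bc v₁ hG₁ ht
  have h3 : Red.IsMaximalTorus ((Over.pullback v₁).map t' ≫ innHom γ x₁) :=
    AlgBc.isMaximalTorus_of_arrow (Iso.refl _) e (by
      have he' : (RedIso.und e).hom = innHom γ x₁ := he
      rw [he']
      exact (Category.id_comp _).symm) h2
  obtain ⟨V₂, π, hπ, ⟨y, hy⟩, g, hg⟩ := Redsub.H649.TorConjLoc.exists_conjEq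
    (RedBcAny636.isReductive_bc v₁ hG) _ _ h1 h3 s'
  refine ⟨V₂, π ≫ v₁, inferInstance, ⟨y, ?_⟩, _, adp_of_conjEq hI v₁ x₁ g hg⟩
  rw [Scheme.Hom.comp_apply, hy]

end Groth.Agent.RedSub.H668
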