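import Groth.Agent.RedSub.H668.TorsBasic
import Groth.Agent.Sga3B.RepDescent9
import Groth.Agent.FlatA.EtaleSections

/-!
# The inner form of a group by a torsor

`G` affine and smooth over `S`, `X` a `G`-torsor.  There is an `S`-group `G₁` with `γ : X ⊗ G₁ ⟶ G`,
multiplicative in `G₁`, with `γ (g x, c) = g γ (x, c) g⁻¹`, and bijective in `c` for each point `x`.
-/

set_option autoImplicit false
universe u

open CategoryTheory CategoryTheory.Limits MonoidalCategory CartesianMonoidalCategory MonObj GrpObj AlgebraicGeometry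
  Opposite
open Groth.Agent.Books.BorelOrb Groth.Agent.Sga3B.RepDescent Groth.Agent.Sga3B.BcPts

namespace Groth.Agent.RedSub.H668

variable {S : Scheme.{u}} {G X : Over S} [GrpObj G] (a : AlgGrp.Action G X)

/-- families `X ⊗ T ⟶ G` equivariant for conjugation -/
def IsEqv (T : Over S) (γ : X ⊗ T ⟶ G) : Prop :=
  ∀ (Y : Over S) (g : Y ⟶ G) (x : Y ⟶ X) (t : Y ⟶ T), lift (sm a g x) t ≫ γ = g * (lift x t ≫ γ) * g⁻¹

/-- the group of equivariant families -/
noncomputable def eqvSub (T : Over S) : Subgroup (X ⊗ T ⟶ G) where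
  carrier := {γ | IsEqv a T γ}
  mul_mem' h h' := fun Y g x t => by
    rw [MonObj.comp_mul, MonObj.comp_mul, h, h']
    group
  one_mem' := fun Y g x t => by
    rw [MonObj.comp_one, MonObj.comp_one]
    group
  inv_mem' h := fun Y g x t => by
    rw [GrpObj.comp_inv, GrpObj.comp_inv, h]
    group

variable {a} in
lemma IsEqv.pull {T T' : Over S} (f : T' ⟶ T) {γ : X ⊗ T ⟶ G} (h : IsEqv a T γ) :
    IsEqv a T' ((X ◁ f) ≫ γ) := fun Y g x t => by
  rw [← Category.assoc, ← Category.assoc, lift_whiskerLeft, lift_whiskerLeft]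
  exact h Y g x (t ≫ f)

/-- pull-back of equivariant families -/
noncomputable def eqvPull {T T' : Over S} (f : T' ⟶ T) : eqvSub a T →* eqvSub a T' where
  toFun γ := ⟨(X ◁ f) ≫ γ.1, IsEqv.pull f γ.2⟩
  map_one' := Subtype.ext (MonObj.comp_one _)
  map_mul' γ γ' := Subtype.ext (MonObj.comp_mul _ _ _)

/-- the functor of equivariant families -/
noncomputable def eqvF : (Over S)ᵒᵖ ⥤ GrpCat.{u} where
  obj T := GrpCat.of (eqvSub a T.unop)
  map f := GrpCat.ofHom (eqvPull a f.unop)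
  map_id T := by
    refine GrpCat.hom_ext (MonoidHom.ext fun γ => Subtype.ext ?_)
    change (X ◁ (𝟙 T.unop)) ≫ γ.1 = γ.1
    rw [MonoidalCategory.whiskerLeft_id, Category.id_comp]
  map_comp f g := by
    refine GrpCat.hom_ext (MonoidHom.ext fun γ => Subtype.ext ?_)
    change (X ◁ (g.unop ≫ f.unop)) ≫ γ.1 = (X ◁ g.unop) ≫ (X ◁ f.unop) ≫ γ.1
    rw [MonoidalCategory.whiskerLeft_comp, Category.assoc]

lemma isEtSheaf_eqvF' : IsEtSheaf (subF (famF X G) (fun T => IsEqv a T) (fun f _ h => IsEqv.pull f h)) := by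
  refine isEtSheaf_subF (isEtSheaf_famF X G) _ ?_
  intro T J T' f hf hT γ h Y g x t
  refine hom_ext_cover T' f hf hT t _ _ ?_
  intro i R p q hpq
  have h1 := h i R (p ≫ g) (p ≫ x) q
  change lift (sm a (p ≫ g) (p ≫ x)) q ≫ (X ◁ f i) ≫ γ = (p ≫ g) * (lift (p ≫ x) q ≫ (X ◁ f i) ≫ γ) * (p ≫ g)⁻¹ at h1
  rw [← Category.assoc, ← Category.assoc (lift (p ≫ x) q), lift_whiskerLeft, lift_whiskerLeft, ← hpq] at h1
  change p ≫ lift (sm a g x) t ≫ γ = p ≫ (g * (lift x t ≫ γ) * g⁻¹)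
  rw [MonObj.comp_mul, MonObj.comp_mul, GrpObj.comp_inv, ← Category.assoc, ← Category.assoc, comp_lift, comp_lift,
    comp_sm]
  exact h1

theorem isEtSheaf_eqvF : IsEtSheaf (eqvF a ⋙ forget GrpCat) := isEtSheaf_eqvF' a

section local_

variable {a} (ha : RedSub.IsTorsor a)

/-- the family attached to a point of `G` and a point `x₀` of the torsor -/
noncomputable def famOfPt {T : Over S} (x₀ : T ⟶ X) (g : T ⟶ G) : X ⊗ T ⟶ G :=
  dif ha (fst X T) (snd X T ≫ x₀) * (snd X T ≫ g) * (dif ha (fst X T) (snd X T ≫ x₀))⁻¹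

lemma lift_famOfPt {T : Over S} (x₀ : T ⟶ X) (g : T ⟶ G) {Y : Over S} (x : Y ⟶ X) (t : Y ⟶ T) :
    lift x t ≫ famOfPt ha x₀ g = dif ha x (t ≫ x₀) * (t ≫ g) * (dif ha x (t ≫ x₀))⁻¹ := by
  rw [famOfPt, MonObj.comp_mul, MonObj.comp_mul, GrpObj.comp_inv, comp_dif, lift_fst, ← Category.assoc,
    lift_snd, ← Category.assoc, lift_snd]

lemma isEqv_famOfPt {T : Over S} (x₀ : T ⟶ X) (g : T ⟶ G) : IsEqv a T (famOfPt ha x₀ g) := by
  intro Y h x t
  rw [lift_famOfPt, lift_famOfPt, dif_sm_left]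
  group

include ha in
/-- two equivariant families with the same value at a point of the torsor agree -/
lemma IsEqv.ext {T : Over S} {γ γ' : X ⊗ T ⟶ G} (h : IsEqv a T γ) (h' : IsEqv a T γ') (x₀ : T ⟶ X)
    (e : lift x₀ (𝟙 T) ≫ γ = lift x₀ (𝟙 T) ≫ γ') : γ = γ' := by
  have key : ∀ {γ : X ⊗ T ⟶ G}, IsEqv a T γ → γ = famOfPt ha x₀ (lift x₀ (𝟙 T) ≫ γ) := by
    intro γ h
    have h1 := h (X ⊗ T) (dif ha (fst X T) (snd X T ≫ x₀)) (snd X T ≫ x₀) (snd X T)
    rw [sm_dif, lift_fst_snd, Category.id_comp] at h1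
    refine h1.trans ?_
    rw [famOfPt]
    congr 2
    rw [← Category.assoc, comp_lift, Category.comp_id]
  rw [key h, key h', e]

/-- points of `G` and equivariant families, given a point of the torsor -/
noncomputable def ptMulEquiv {T : Over S} (x₀ : T ⟶ X) : (T ⟶ G) ≃* eqvSub a T where
  toFun g := ⟨famOfPt ha x₀ g, isEqv_famOfPt ha x₀ g⟩
  invFun γ := lift x₀ (𝟙 T) ≫ γ.1
  left_inv g := by
    change lift x₀ (𝟙 T) ≫ famOfPt ha x₀ g = g
    rw [lift_famOfPt, Category.id_comp, Category.id_comp, dif_self]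
    group
  right_inv γ := Subtype.ext (IsEqv.ext ha (isEqv_famOfPt ha x₀ _) γ.2 x₀ (by
    rw [lift_famOfPt, Category.id_comp, Category.id_comp, dif_self]
    group))
  map_mul' g g' := Subtype.ext (by
    change famOfPt ha x₀ (g * g') = famOfPt ha x₀ g * famOfPt ha x₀ g'
    refine IsEqv.ext ha (isEqv_famOfPt ha x₀ _) ((eqvSub a T).mul_mem (isEqv_famOfPt ha x₀ g)
      (isEqv_famOfPt ha x₀ g')) x₀ ?_
    rw [MonObj.comp_mul, lift_famOfPt, lift_famOfPt, lift_famOfPt, Category.id_comp, Category.id_comp,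
      Category.id_comp, Category.id_comp, dif_self]
    group)

lemma ptMulEquiv_nat {T T' : Over S} (f : T' ⟶ T) (x₀ : T ⟶ X) (g : T ⟶ G) :
    ptMulEquiv ha (f ≫ x₀) (f ≫ g) = eqvPull a f (ptMulEquiv ha x₀ g) := by
  apply Subtype.ext
  change famOfPt ha (f ≫ x₀) (f ≫ g) = (X ◁ f) ≫ famOfPt ha x₀ g
  refine IsEqv.ext ha (isEqv_famOfPt ha _ _) (IsEqv.pull f (isEqv_famOfPt ha _ _)) (f ≫ x₀) ?_
  rw [← Category.assoc (lift (f ≫ x₀) (𝟙 T')) (X ◁ f), lift_whiskerLeft, lift_famOfPt, lift_famOfPt]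
  simp only [Category.id_comp]

/-- local representability -/
noncomputable def repLocal {V : Scheme.{u}} (v : V ⟶ S) (x₀ : Over.mk v ⟶ X) :
    ((Over.map v).op ⋙ eqvF a ⋙ forget GrpCat).RepresentableBy (Red.bc v G) where
  homEquiv {T} := (bcEquiv v T G).symm.trans
    (ptMulEquiv ha ((Over.homMk T.hom : (Over.map v).obj T ⟶ Over.mk v) ≫ x₀)).toEquiv
  homEquiv_comp {T T'} f g := by
    have h1 := comp_bcEquiv_symm v f g
    change ptMulEquiv ha _ ((bcEquiv v T G).symm (f ≫ g)) = eqvPull a ((Over.map v).map f) (ptMulEquiv ha _ _)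
    rw [h1, ← ptMulEquiv_nat]
    congr 1
    rw [← Category.assoc]
    congr 1
    ext1
    simp

end local_

end Groth.Agent.RedSub.H668
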