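import Groth.Agent.RedSub.H668.UnivPt
import Groth.Agent.Etbase.FpqcDescent
import Mathlib.LinearAlgebra.FreeModule.Finite.Basic
import Mathlib.RingTheory.Ideal.Quotient.Operations
import Mathlib.RingTheory.QuasiFinite.Basic

/-!
# Sections of a scheme with an action of `D(M)` over a semilocal ring

`A` semilocal, `M` a finitely generated free abelian group, `Spec C` with an action of `D(M)` which is
locally for the flat topology a finite non empty disjoint union of free orbits.  Then there is a finite
étale surjective `Spec A₁ → Spec A` over which `Spec C` has a section.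
-/

set_option autoImplicit false
universe u

open TensorProduct CategoryTheory CategoryTheory.Limits AlgebraicGeometry

namespace Groth.Agent.RedSub.H668

/-- A property descending along faithfully flat quasi-compact morphisms can be checked on a flat covering. -/
theorem of_flat_cover {S : Scheme.{u}} {P : MorphismProperty Scheme.{u}} [IsZariskiLocalAtTarget P]
    [P.IsStableUnderBaseChange] [P.DescendsAlong (@Surjective ⊓ @Flat ⊓ @QuasiCompact)] {X : Scheme.{u}}
    (g : X ⟶ S)
    (h : ∀ s : S, ∃ (V : Scheme.{u}) (v : V ⟶ S), Flat v ∧ LocallyOfFinitePresentation v ∧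
      s ∈ Set.range v ∧ P (pullback.snd g v)) : P g := by
  apply IsZariskiLocalAtTarget.of_forall_exists_morphismRestrict
  intro s
  obtain ⟨V, v, hv, hv', hs, hP⟩ := h s
  let O : S.Opens := ⟨Set.range v, v.isOpenMap.isOpen_range⟩
  refine ⟨O, hs, ?_⟩
  let q : V ⟶ (O : Scheme.{u}) := IsOpenImmersion.lift O.ι v (by rw [Scheme.Opens.range_ι]; exact fun _ h => h)
  have hq : q ≫ O.ι = v := IsOpenImmersion.lift_fac _ _ _
  have hqe : Flat q := by
    have h1 : Flat (q ≫ O.ι) := by rw [hq]; exact hv
    exact MorphismProperty.of_postcomp (W := @Flat) (W' := @IsOpenImmersion) q O.ι inferInstance h1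
  have hqf : LocallyOfFinitePresentation q := by
    have h1 : LocallyOfFinitePresentation (q ≫ O.ι) := by rw [hq]; exact hv'
    exact MorphismProperty.of_postcomp (W := @LocallyOfFinitePresentation) (W' := @IsOpenImmersion) q O.ι
      inferInstance h1
  have hqs : Surjective q := ⟨by
    rintro ⟨_, x, rfl⟩
    refine ⟨x, ?_⟩
    apply O.ι.isOpenEmbedding.injective
    rw [← Scheme.Hom.comp_apply, hq]
    rfl⟩
  apply MorphismProperty.of_pullback_snd_of_descendsAlong (P := P)
    (Q := @Surjective ⊓ @Flat ⊓ @LocallyOfFinitePresentation) (g := q) ⟨⟨hqs, inferInstance⟩, inferInstance⟩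
  have h4 := (IsPullback.of_hasPullback (g ∣_ O) q).paste_horiz (isPullback_morphismRestrict g O).flip
  rw [hq] at h4
  exact (P.arrow_mk_iso_iff (Arrow.isoMk (h4.isoIsPullback _ _ (IsPullback.of_hasPullback g v)) (Iso.refl _)
    (by simp))).mpr hP

variable {A C : Type u} [CommRing A] [CommRing C] [Algebra A C] {Γ : Type} [CommGroup Γ]

namespace PtAct

variable (S : PtAct A C Γ)

/-- `Spec C` is, over a flat covering of `Spec A`, a finite non empty disjoint union of free orbits. -/
def LocSplit : Prop :=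
  ∀ p : PrimeSpectrum A, ∃ (A' : Type u) (_ : CommRing A') (_ : Algebra A A'), Module.Flat A A' ∧
    Algebra.FinitePresentation A A' ∧ p ∈ Set.range (PrimeSpectrum.comap (algebraMap A A')) ∧
    ∃ (W : Type) (_ : Fintype W) (_ : Nonempty W) (e : W → (C →ₐ[A] A')), Inj S e ∧ Loc S e

variable {S}

/-- The invariants are finite étale. -/
theorem LocSplit.finite_etale (h : LocSplit S) : Module.Finite A S.C0 ∧ Algebra.Etale A S.C0 := by
  let g : Spec (CommRingCat.of S.C0) ⟶ Spec (CommRingCat.of A) :=
    Spec.map (CommRingCat.ofHom (algebraMap A S.C0))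
  have h1 : (@IsFinite ⊓ @Etale : MorphismProperty Scheme.{u}) g := by
    have key : ∀ s : Spec (CommRingCat.of A), ∃ (V : Scheme.{u}) (v : V ⟶ Spec (CommRingCat.of A)),
        Flat v ∧ LocallyOfFinitePresentation v ∧ s ∈ Set.range v ∧
          IsFinite (pullback.snd g v) ∧ Etale (pullback.snd g v) := by
      intro s
      obtain ⟨A', _, _, hfl, hfp, hs, W, _, _, e, hI, hL⟩ := h s
      let v : Spec (CommRingCat.of A') ⟶ Spec (CommRingCat.of A) :=
        Spec.map (CommRingCat.ofHom (algebraMap A A'))
      let E : A' ⊗[A] S.C0 ≃ₐ[A'] (W → A') := S.alphaEquiv hI hL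
      have hfin : Module.Finite A' (A' ⊗[A] S.C0) := Module.Finite.equiv E.toLinearEquiv.symm
      have het : Algebra.Etale A' (A' ⊗[A] S.C0) := Algebra.Etale.of_equiv E.symm
      refine ⟨_, v, ?_, ?_, hs, ?_⟩
      · rw [HasRingHomProperty.Spec_iff (P := @Flat)]
        exact RingHom.flat_algebraMap_iff.mpr hfl
      · rw [HasRingHomProperty.Spec_iff (P := @LocallyOfFinitePresentation)]
        exact RingHom.finitePresentation_algebraMap.mpr hfp
      · let w : Spec (CommRingCat.of (A' ⊗[A] S.C0)) ⟶ Spec (CommRingCat.of A') :=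
          Spec.map (CommRingCat.ofHom (algebraMap A' (A' ⊗[A] S.C0)))
        have hw1 : IsFinite w := by
          rw [IsFinite.SpecMap_iff]
          exact RingHom.finite_algebraMap.mpr hfin
        have hw2 : Etale w := by
          rw [HasRingHomProperty.Spec_iff (P := @Etale)]
          exact RingHom.etale_algebraMap.mpr het
        have e1 : Arrow.mk (pullback.snd g v) ≅ Arrow.mk w := by
          refine Arrow.isoMk ((pullbackSymmetry g v) ≪≫ pullbackSpecIso A A' S.C0) (Iso.refl _) ?_
          simp only [Arrow.mk_hom, Iso.trans_hom, Iso.refl_hom, Category.comp_id, Category.assoc]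
          have h2 := pullbackSpecIso_hom_fst A A' S.C0
          change (pullbackSymmetry g v).hom ≫ (pullbackSpecIso A A' S.C0).hom ≫ w = _
          change (pullbackSpecIso A A' S.C0).hom ≫ w = pullback.fst v g at h2
          rw [h2, pullbackSymmetry_hom_comp_fst]
        exact ⟨(MorphismProperty.arrow_mk_iso_iff @IsFinite e1).mpr hw1,
          (MorphismProperty.arrow_mk_iso_iff @Etale e1).mpr hw2⟩
    refine ⟨?_, ?_⟩
    · refine of_flat_cover g fun s => ?_
      obtain ⟨V, v, h1, h2, h3, h4, -⟩ := key s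
      exact ⟨V, v, h1, h2, h3, h4⟩
    · refine of_flat_cover g fun s => ?_
      obtain ⟨V, v, h1, h2, h3, -, h4⟩ := key s
      exact ⟨V, v, h1, h2, h3, h4⟩
  constructor
  · have h2 : IsFinite g := h1.1
    rw [IsFinite.SpecMap_iff] at h2
    exact RingHom.finite_algebraMap.mp h2
  · have h2 : Etale g := h1.2
    rw [HasRingHomProperty.Spec_iff (P := @Etale)] at h2
    exact RingHom.etale_algebraMap.mp h2

theorem LocSplit.comap_surjective (h : LocSplit S) :
    Function.Surjective (PrimeSpectrum.comap (algebraMap A S.C0)) := by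
  intro p
  obtain ⟨A', _, _, hfl, hfp, ⟨q, hq⟩, W, _, ⟨w⟩, e, hI, hL⟩ := h p
  refine ⟨PrimeSpectrum.comap ((e w).comp S.C0.val).toRingHom q, ?_⟩
  rw [← hq, ← PrimeSpectrum.comap_comp_apply]
  congr 1
  ext a
  exact ((e w).comp S.C0.val).commutes a

/-- the products of homogeneous elements of opposite degrees -/
theorem LocSplit.one_mem_NN (h : LocSplit S) (g : Γ) : (1 : C) ∈ S.NN g := by
  classical
  -- a finite subcover
  choose A' i₁ i₂ hfl hfp hp W j₁ j₂ e hI hL using h
  have hopen : ∀ q, IsOpen (Set.range (PrimeSpectrum.comap (algebraMap A (A' q)))) := by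
    intro q
    have := hfl q
    have := hfp q
    exact (PrimeSpectrum.isOpenMap_comap_of_hasGoingDown_of_finitePresentation
      (R := A) (S := A' q)).isOpen_range
  obtain ⟨F, hF⟩ := isCompact_univ.elim_finite_subcover
    (fun q => Set.range (PrimeSpectrum.comap (algebraMap A (A' q)))) hopen
    (fun q _ => Set.mem_iUnion.2 ⟨q, hp q⟩)
  let L : F → Type u := fun k => A' k.1
  have hflat : ∀ k, Module.Flat A (L k) := fun k => hfl k.1
  have hff : Module.FaithfullyFlat A (∀ k, L k) := by
    refine faithfullyFlat_pi A L fun q => ?_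
    obtain ⟨q', hq', hq''⟩ := Set.mem_iUnion₂.1 (hF (Set.mem_univ q))
    exact ⟨⟨q', hq'⟩, hq''⟩
  refine mem_of_ff (A' := ∀ k, L k) _ _ ?_
  have h1 : (1 : ∀ k, L k) ⊗ₜ[A] (1 : C) =
      ∑ k : F, (LinearMap.single A L k).rTensor C ((1 : L k) ⊗ₜ[A] (1 : C)) := by
    simp only [LinearMap.rTensor_tmul]
    rw [← TensorProduct.sum_tmul]
    congr 1
    funext k
    rw [Finset.sum_apply, Finset.sum_eq_single k]
    · simp
    · intro k' _ hk
      simp [hk.symm]
    · intro hh; exact absurd (Finset.mem_univ _) hh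
  rw [h1]
  refine Submodule.sum_mem _ fun k _ => ?_
  have h2 : (1 : L k) ⊗ₜ[A] (1 : C) ∈ LinearMap.range ((S.NN g).subtype.lTensor (L k)) := by
    obtain ⟨ε, t, h, -, ht⟩ := S.exists_univ (hI k.1) (hL k.1)
    have h1 : (1 : L k) ⊗ₜ[A] (1 : C) = t g * t g⁻¹ := by
      rw [← map_mul, mul_inv_cancel, map_one]
      rfl
    rw [h1]
    refine S.mul_mem_range_NN _ _ _ ?_ ?_
    · rw [← ht g]; exact S.mem_span_of_lTensor g _
    · rw [← ht g⁻¹]; exact S.mem_span_of_lTensor g⁻¹ _
  obtain ⟨z, hz⟩ := h2
  rw [← hz]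
  refine ⟨(LinearMap.single A L k).rTensor _ z, ?_⟩
  rw [← LinearMap.comp_apply, ← LinearMap.comp_apply, LinearMap.lTensor_comp_rTensor,
    LinearMap.rTensor_comp_lTensor]

end PtAct

end Groth.Agent.RedSub.H668
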