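import Groth.Agent.RedSub.H668.InnerRep
import Groth.Agent.RedSub.H668.TorsSec
import Groth.Agent.Sga3B.AlgBc2

/-!
# The inner form of a reductive group is reductive
-/

set_option autoImplicit false
universe u

open CategoryTheory CategoryTheory.Limits MonoidalCategory CartesianMonoidalCategory MonObj GrpObj AlgebraicGeometry
  Opposite
open Groth.Agent.Books.BorelOrb Groth.Agent.Sga3B.BcPts Groth.Agent.Sga3B.IsoFam

namespace Groth.Agent.RedSub.H668

variable {S : Scheme.{u}} {G X : Over S} [GrpObj G] {a : AlgGrp.Action G X} {G₁ : Over S} [GrpObj G₁]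
  {γ : X ⊗ G₁ ⟶ G}

/-- the family of homomorphisms `G₁ → G` attached to a point `x₀` of the torsor -/
noncomputable def innFam (γ : X ⊗ G₁ ⟶ G) {T : Over S} (x₀ : T ⟶ X) : G₁ ⊗ T ⟶ G :=
  lift (snd G₁ T ≫ x₀) (fst G₁ T) ≫ γ

omit [GrpObj G] [GrpObj G₁] in
lemma lift_innFam {T : Over S} (x₀ : T ⟶ X) {Y : Over S} (c : Y ⟶ G₁) (t : Y ⟶ T) :
    lift c t ≫ innFam γ x₀ = lift (t ≫ x₀) c ≫ γ := by
  rw [innFam, ← Category.assoc, comp_lift, lift_fst, ← Category.assoc, lift_snd]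

/-- the unique point of `G₁` with a given value -/
noncomputable def IsInner.pre (h : IsInner a G₁ γ) {Y : Over S} (x : Y ⟶ X) (g : Y ⟶ G) : Y ⟶ G₁ :=
  ((h.bij Y x).2 g).choose

lemma IsInner.pre_spec (h : IsInner a G₁ γ) {Y : Over S} (x : Y ⟶ X) (g : Y ⟶ G) :
    lift x (h.pre x g) ≫ γ = g := ((h.bij Y x).2 g).choose_spec

lemma IsInner.pre_eq (h : IsInner a G₁ γ) {Y : Over S} {x : Y ⟶ X} {g : Y ⟶ G} {c : Y ⟶ G₁}
    (e : lift x c ≫ γ = g) : h.pre x g = c := (h.bij Y x).1 ((h.pre_spec x g).trans e.symm)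

lemma IsInner.comp_pre (h : IsInner a G₁ γ) {Y Y' : Over S} (f : Y' ⟶ Y) (x : Y ⟶ X) (g : Y ⟶ G) :
    f ≫ h.pre x g = h.pre (f ≫ x) (f ≫ g) :=
  (h.pre_eq (by rw [← comp_lift, Category.assoc, h.pre_spec])).symm

lemma IsInner.pre_mul (h : IsInner a G₁ γ) {Y : Over S} (x : Y ⟶ X) (g g' : Y ⟶ G) :
    h.pre x (g * g') = h.pre x g * h.pre x g' :=
  h.pre_eq (by rw [h.mul, h.pre_spec, h.pre_spec])

lemma IsInner.isIsoFamily (h : IsInner a G₁ γ) {T : Over S} (x₀ : T ⟶ X) :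
    AutFam.IsIsoFamily G₁ G (innFam γ x₀) := by
  refine ⟨fun Y c c' t => ?_, h.pre (snd G T ≫ x₀) (fst G T), fun Y c t => ?_, fun Y g t => ?_⟩
  · rw [lift_innFam, lift_innFam, lift_innFam, h.mul]
  · rw [lift_innFam, h.comp_pre, lift_fst, ← Category.assoc, lift_snd]
    exact h.pre_eq rfl
  · rw [lift_innFam, h.comp_pre, lift_fst, ← Category.assoc, lift_snd]
    exact h.pre_spec _ _

/-- the inner form becomes isomorphic to `G` wherever the torsor has a point -/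
theorem IsInner.exists_iso (h : IsInner a G₁ γ) {V : Scheme.{u}} (v : V ⟶ S) (x₀ : Over.mk v ⟶ X) :
    ∃ e : Grp.mk (Red.bc v G₁) ≅ Grp.mk (Red.bc v G), e.hom.hom.hom = unfam (T := Over.mk v) (innFam γ x₀) :=
  exists_iso_of_isIsoFamily (T := Over.mk v) (h.isIsoFamily x₀)

/-- étale local points of the torsor -/
theorem exists_etale_point (ha : RedSub.IsTorsor a) (hs : Smooth G.hom) (s : S) :
    ∃ (V : Scheme.{u}) (v : V ⟶ S) (s' : V) (_ : Over.mk v ⟶ X), Etale v ∧ v s' = s := by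
  have h1 : Smooth X.hom := smooth_of_torsor ha hs
  have h2 : Surjective X.hom := ha.1
  obtain ⟨V, v, s', hv, hs', σ, hσ⟩ :=
    Groth.Agent.FlatA.EtaleSections.exists_section X.hom s (h2.surj s)
  exact ⟨V, v, s', Over.homMk σ hσ, hv, hs'⟩

theorem prop_of_inner (ha : RedSub.IsTorsor a) (hs : Smooth G.hom) (h : IsInner a G₁ γ)
    (P : MorphismProperty Scheme.{u}) [IsZariskiLocalAtTarget P]
    [P.IsStableUnderBaseChange] [P.DescendsAlong (@Surjective ⊓ @Flat ⊓ @QuasiCompact)] (hG : P G.hom) :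
    P G₁.hom := by
  refine of_flat_cover G₁.hom fun s => ?_
  obtain ⟨V, v, s', x₀, hv, hs'⟩ := exists_etale_point ha hs s
  refine ⟨V, v, inferInstance, inferInstance, ⟨s', hs'⟩, ?_⟩
  obtain ⟨e, -⟩ := h.exists_iso v x₀
  have h1 : P (Red.bc v G).hom := P.pullback_snd _ _ hG
  let e' : Red.bc v G₁ ≅ Red.bc v G := (Grp.forget _).mapIso e
  have h2 : P (Red.bc v G₁).hom := by
    have h3 : e'.hom.left ≫ (Red.bc v G).hom = (Red.bc v G₁).hom := Over.w e'.hom
    have h4 : IsIso e'.hom.left := inferInstanceAs (IsIso ((Over.forget V).map e'.hom))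
    rw [← h3]
    exact (P.cancel_left_of_respectsIso _ _).2 h1
  exact h2

/-- **The inner form of a reductive group is reductive.** -/
theorem isReductive_of_inner (ha : RedSub.IsTorsor a) (h : IsInner a G₁ γ) (hG : Red.IsReductive G) :
    Red.IsReductive G₁ := by
  refine ⟨prop_of_inner ha hG.2.1 h @IsAffineHom hG.1, prop_of_inner ha hG.2.1 h @Smooth hG.2.1, fun s => ?_⟩
  obtain ⟨V, v, s', x₀, hv, rfl⟩ := exists_etale_point ha hG.2.1 s
  obtain ⟨e, -⟩ := h.exists_iso v x₀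
  have h1 : Red.IsReductive (Red.bc v G) := Sga3B.AlgBc.isReductive_bc v hG
  have h2 : Red.IsReductive (Red.bc v G₁) := Sga3B.AlgBc.isReductive_of_iso e.symm h1
  exact (Sga3B.AlgBc.isReductiveOver_geomFibre_bc_iff v s').mp (h2.2.2 s')

end Groth.Agent.RedSub.H668
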