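import Groth.Agent.RedSub.H668.Inner

/-!
# The inner form of a group by a torsor: existence
-/

set_option autoImplicit false
universe u

open CategoryTheory CategoryTheory.Limits MonoidalCategory CartesianMonoidalCategory MonObj GrpObj AlgebraicGeometry
  Opposite
open Groth.Agent.Books.BorelOrb Groth.Agent.Sga3B.RepDescent Groth.Agent.Sga3B.BcPts

namespace Groth.Agent.RedSub.H668

variable {S : Scheme.{u}} {G X : Over S} [GrpObj G] (a : AlgGrp.Action G X)

/-- `G₁` with `γ : X ⊗ G₁ ⟶ G` is the inner form of `G` by the torsor `X`. -/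
structure IsInner (G₁ : Over S) [GrpObj G₁] (γ : X ⊗ G₁ ⟶ G) : Prop where
  eqv : ∀ (Y : Over S) (g : Y ⟶ G) (x : Y ⟶ X) (c : Y ⟶ G₁),
    lift (sm a g x) c ≫ γ = g * (lift x c ≫ γ) * g⁻¹
  mul : ∀ (Y : Over S) (x : Y ⟶ X) (c c' : Y ⟶ G₁),
    lift x (c * c') ≫ γ = (lift x c ≫ γ) * (lift x c' ≫ γ)
  bij : ∀ (Y : Over S) (x : Y ⟶ X), Function.Bijective (fun c : Y ⟶ G₁ => lift x c ≫ γ)

/-- the product of two points for the group structure defined by a representation -/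
lemma ofRepresentableBy_mul {𝒞 : Type*} [Category 𝒞] [CartesianMonoidalCategory 𝒞] {Z : 𝒞}
    (F : 𝒞ᵒᵖ ⥤ GrpCat) (r : (F ⋙ forget _).RepresentableBy Z) {Y : 𝒞} (f g : Y ⟶ Z) :
    letI := GrpObj.ofRepresentableBy Z F r
    (r.homEquiv (f * g) : F.obj (op Y)) = (r.homEquiv f : F.obj (op Y)) * (r.homEquiv g : F.obj (op Y)) := by
  let := GrpObj.ofRepresentableBy Z F r
  have h0 : (r.homEquiv μ[Z] : F.obj (op (Z ⊗ Z))) =
      (r.homEquiv (fst Z Z) : F.obj (op (Z ⊗ Z))) * (r.homEquiv (snd Z Z) : F.obj (op (Z ⊗ Z))) :=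
    r.homEquiv.apply_symm_apply _
  have h1 : f * g = lift f g ≫ μ[Z] := Hom.mul_def f g
  rw [h1, r.homEquiv_comp]
  have h2 : (r.homEquiv f : F.obj (op Y)) = (F.map (lift f g).op) (r.homEquiv (fst Z Z) : F.obj (op (Z ⊗ Z))) := by
    have := r.homEquiv_comp (lift f g) (fst Z Z)
    rw [lift_fst] at this
    exact this
  have h3 : (r.homEquiv g : F.obj (op Y)) = (F.map (lift f g).op) (r.homEquiv (snd Z Z) : F.obj (op (Z ⊗ Z))) := by
    have := r.homEquiv_comp (lift f g) (snd Z Z)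
    rw [lift_snd] at this
    exact this
  rw [h2, h3, ← map_mul, ← h0]
  rfl

variable {a}

/-- **Representability of the inner form.** -/
theorem exists_repr (ha : RedSub.IsTorsor a) (hG : IsAffineHom G.hom) (hs : Smooth G.hom) :
    ∃ G₁ : Over S, Nonempty ((eqvF a ⋙ forget GrpCat).RepresentableBy G₁) := by
  refine exists_representableBy_of_etale (isEtSheaf_eqvF a) fun s => ?_
  have h1 : Smooth X.hom := smooth_of_torsor ha hs
  have h2 : Surjective X.hom := ha.1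
  obtain ⟨V, v, s', hv, hs', σ, hσ⟩ :=
    Groth.Agent.FlatA.EtaleSections.exists_section X.hom s (h2.surj s)
  obtain ⟨U, hU, hsU, -⟩ := exists_isAffineOpen_mem_and_subset (x := s') (U := ⊤) trivial
  have : IsAffine (U : Scheme.{u}) := hU
  refine ⟨U, U.ι ≫ v, inferInstance, ⟨⟨s', hsU⟩, ?_⟩, Red.bc (U.ι ≫ v) G,
    ⟨repLocal ha (U.ι ≫ v) (Over.homMk (U.ι ≫ σ) (by
      change (U.ι ≫ σ) ≫ X.hom = U.ι ≫ v
      rw [Category.assoc, hσ]))⟩, ?_⟩
  · rw [Scheme.Hom.comp_apply]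
    exact hs'
  · intro O hO
    have h3 : IsAffineHom (Red.bc (U.ι ≫ v) G).hom :=
      MorphismProperty.pullback_snd (P := @IsAffineHom) _ _ hG
    have h4 : IsAffine (Red.bc (U.ι ≫ v) G).left := isAffine_of_isAffineHom (Red.bc (U.ι ≫ v) G).hom
    exact isQuasiAffine_of_le (W := ⊤) le_top (isAffineOpen_top _) hO

/-- **Existence of the inner form.** -/
theorem exists_inner (ha : RedSub.IsTorsor a) (hG : IsAffineHom G.hom) (hs : Smooth G.hom) :
    ∃ (G₁ : Over S) (_ : GrpObj G₁) (γ : X ⊗ G₁ ⟶ G), IsInner a G₁ γ := by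
  obtain ⟨G₁, ⟨r⟩⟩ := exists_repr ha hG hs
  let : GrpObj G₁ := GrpObj.ofRepresentableBy G₁ (eqvF a) r
  let u : eqvSub a G₁ := r.homEquiv (𝟙 G₁)
  have hu : ∀ {Y : Over S} (c : Y ⟶ G₁), (r.homEquiv c : eqvSub a Y) = eqvPull a c u := by
    intro Y c
    have h1 := r.homEquiv_comp c (𝟙 G₁)
    rw [Category.comp_id] at h1
    exact h1
  have hval : ∀ {Y : Over S} (x : Y ⟶ X) (c : Y ⟶ G₁),
      lift x c ≫ u.1 = (ptMulEquiv ha x).symm (r.homEquiv c : eqvSub a Y) := by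
    intro Y x c
    rw [hu]
    change _ = lift x (𝟙 Y) ≫ (X ◁ c) ≫ u.1
    rw [← Category.assoc, lift_whiskerLeft, Category.id_comp]
  refine ⟨G₁, inferInstance, u.1, ⟨?_, ?_, ?_⟩⟩
  · exact u.2
  · intro Y x c c'
    rw [hval, hval, hval]
    have h1 := ofRepresentableBy_mul (eqvF a) r c c'
    exact (congrArg _ h1).trans (map_mul (ptMulEquiv ha x).symm _ _)
  · intro Y x
    have h1 : (fun c : Y ⟶ G₁ => lift x c ≫ u.1) = (ptMulEquiv ha x).symm ∘ (r.homEquiv (X := Y)) := by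
      funext c
      exact hval x c
    rw [h1]
    exact (ptMulEquiv ha x).symm.bijective.comp r.homEquiv.bijective

end Groth.Agent.RedSub.H668
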