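import Groth.Agent.RedSub.H668.SemiSec
import Groth.Agent.Sga3B.Desc
import Groth.Agent.Sga3B.DSPts

/-!
# Sections of schemes with an action of `D(M)` over a semilocal scheme

`DAct S M E` : an action of `D_S(M)` on the `S`-scheme `E`, on points.
`DAct.LocSplit` : flat-locally on `S`, `E` is a finite non empty disjoint union of free orbits of sections.
`DAct.LocSplit.exists_section` : over `S = Spec R`, `R` semilocal, `E` affine, `M` free: `E` has a section
over a finite étale surjective `S' → S`.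
-/

set_option autoImplicit false
universe u

open CategoryTheory CategoryTheory.Limits MonoidalCategory CartesianMonoidalCategory MonObj GrpObj AlgebraicGeometry
  Opposite
open Groth.Agent.Sga3B.Desc Groth.Agent.Sga3B.DSPts

namespace Groth.Agent.RedSub.H668

/-- an action of `D(M)` on `E`, on points -/
structure DAct (S : Scheme.{u}) (M : Type) [AddCommGroup M] (E : Over S) where
  /-- the action -/
  act : ∀ {Y : Over S}, (Y ⟶ Red.DS S M) → (Y ⟶ E) → (Y ⟶ E)
  nat : ∀ {Y Y' : Over S} (f : Y' ⟶ Y) (t : Y ⟶ Red.DS S M) (x : Y ⟶ E), f ≫ act t x = act (f ≫ t) (f ≫ x)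
  one_act : ∀ {Y : Over S} (x : Y ⟶ E), act 1 x = x
  mul_act : ∀ {Y : Over S} (t t' : Y ⟶ Red.DS S M) (x : Y ⟶ E), act (t * t') x = act t (act t' x)

namespace DAct

section defs

variable {S : Scheme.{u}} {M : Type} [AddCommGroup M] {E : Over S} (P : DAct S M E)

/-- The orbits of the `e w` are free and disjoint. -/
def Inj {V : Over S} {W : Type} (e : W → (V ⟶ E)) : Prop :=
  ∀ (Y : Over S) (_ : Nonempty Y.left) (j : Y ⟶ V) (w w' : W) (t t' : Y ⟶ Red.DS S M),
    P.act t (j ≫ e w) = P.act t' (j ≫ e w') → w = w' ∧ t = t'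

/-- Every point is locally in the orbit of some `e w`. -/
def Loc {V : Over S} {W : Type} (e : W → (V ⟶ E)) : Prop :=
  ∀ (Y : Over S) (j : Y ⟶ V) (x : Y ⟶ E) (y : Y.left),
    ∃ (Y' : Over S) (f : Y' ⟶ Y), Flat f.left ∧ LocallyOfFinitePresentation f.left ∧ y ∈ Set.range f.left ∧
      ∃ (w : W) (t : Y' ⟶ Red.DS S M), f ≫ x = P.act t (f ≫ j ≫ e w)

/-- flat-locally a finite non empty disjoint union of free orbits -/
def LocSplit : Prop :=
  ∀ s : S, ∃ (V : Scheme.{u}) (v : V ⟶ S), Flat v ∧ LocallyOfFinitePresentation v ∧ s ∈ Set.range v ∧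
    ∃ (W : Type) (_ : Fintype W) (_ : Nonempty W) (e : W → (Over.mk v ⟶ E)), P.Inj e ∧ P.Loc e

lemma Inj.comp {V V' : Over S} {W : Type} {e : W → (V ⟶ E)} (h : P.Inj e) (f : V' ⟶ V) :
    P.Inj fun w => f ≫ e w := fun Y hY j w w' t t' H =>
  h Y hY (j ≫ f) w w' t t' (by simpa only [Category.assoc] using H)

lemma Loc.comp {V V' : Over S} {W : Type} {e : W → (V ⟶ E)} (h : P.Loc e) (f : V' ⟶ V) :
    P.Loc fun w => f ≫ e w := fun Y j x y => by
  obtain ⟨Y', g, h1, h2, h3, w, t, h4⟩ := h Y (j ≫ f) x y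
  exact ⟨Y', g, h1, h2, h3, w, t, by simpa only [Category.assoc] using h4⟩

end defs

variable {R : CommRingCat.{u}} {M : Type} [AddCommGroup M]

variable (R) in
/-- global functions of an affine scheme -/
noncomputable def gam (B : Type u) [CommRing B] [Algebra R B] : B ≃* Γ((sp R B).left, ⊤) :=
  ((Scheme.ΓSpecIso (CommRingCat.of B)).symm.commRingCatIsoToRingEquiv).toMulEquiv

/-- characters and points of `D(M)` over an affine scheme -/
noncomputable def chr (B : Type u) [CommRing B] [Algebra R B] :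
    (Multiplicative M →* B) ≃* (sp R B ⟶ Red.DS (Spec R) M) where
  toFun t := dsEquiv (sp R B) M ((gam R B).toMonoidHom.comp t)
  invFun x := (gam R B).symm.toMonoidHom.comp (dsChar x)
  left_inv t := by
    beta_reduce
    rw [dsChar_dsEquiv]
    ext m
    exact (gam R B).symm_apply_apply _
  right_inv x := by
    refine (congrArg (dsEquiv (sp R B) M) ?_).trans (dsEquiv_dsChar x)
    ext m
    exact (gam R B).apply_symm_apply _
  map_mul' t t' := by
    rw [← map_mul]
    congr 1
    ext m
    exact map_mul (gam R B) _ _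

lemma chr_apply (B : Type u) [CommRing B] [Algebra R B] (t : Multiplicative M →* B) :
    chr B t = dsEquiv (sp R B) M ((gam R B).toMonoidHom.comp t) := rfl

lemma spMap_chr {B B' : Type u} [CommRing B] [Algebra R B] [CommRing B'] [Algebra R B'] (φ : B →ₐ[R] B')
    (t : Multiplicative M →* B) : spMap φ ≫ chr B t = chr B' ((φ : B →* B').comp t) := by
  rw [chr_apply, chr_apply, dsEquiv_naturality]
  congr 1
  ext m
  have h := congrArg (fun f => f.hom (t m)) (Scheme.ΓSpecIso_inv_naturality (CommRingCat.ofHom φ.toRingHom))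
  exact h.symm

section

variable {C : Type u} [CommRing C] [Algebra R C] {E : Over (Spec R)} (ε : sp R C ≅ E)

/-- algebra homomorphisms and points -/
lemma exists_alg {B : Type u} [CommRing B] [Algebra R B] (x : sp R B ⟶ E) :
    ∃ f : C →ₐ[R] B, spMap f ≫ ε.hom = x := by
  obtain ⟨f, hf⟩ := spMap_surjective (x ≫ ε.inv)
  exact ⟨f, by rw [hf, Category.assoc, Iso.inv_hom_id, Category.comp_id]⟩

lemma alg_ext {B : Type u} [CommRing B] [Algebra R B] {f g : C →ₐ[R] B}
    (h : spMap f ≫ ε.hom = spMap g ≫ ε.hom) : f = g :=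
  spMap_injective ((cancel_mono ε.hom).1 h)

/-- the corresponding action on the algebra -/
noncomputable def toPt (P : DAct (Spec R) M E) : PtAct R C (Multiplicative M) where
  act t x := (exists_alg ε (P.act (chr _ t) (spMap x ≫ ε.hom))).choose
  nat φ t x := by
    apply alg_ext ε
    rw [spMap_comp, Category.assoc, (exists_alg ε _).choose_spec, (exists_alg ε _).choose_spec, P.nat,
      spMap_comp, spMap_chr, Category.assoc]
  one_act x := by
    apply alg_ext ε
    rw [(exists_alg ε _).choose_spec, map_one, P.one_act]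
  mul_act t t' x := by
    apply alg_ext ε
    rw [(exists_alg ε _).choose_spec, (exists_alg ε _).choose_spec, (exists_alg ε _).choose_spec, map_mul,
      P.mul_act]

lemma toPt_spec (P : DAct (Spec R) M E) {B : Type u} [CommRing B] [Algebra R B] (t : Multiplicative M →* B)
    (x : C →ₐ[R] B) : spMap ((toPt ε P).act t x) ≫ ε.hom = P.act (chr B t) (spMap x ≫ ε.hom) :=
  (exists_alg ε (P.act (chr _ t) (spMap x ≫ ε.hom))).choose_spec

end

/-- an affine open neighbourhood, as an algebra -/
lemma exists_affine (Y : Over (Spec R)) (y : Y.left) :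
    ∃ (B : Type u) (_ : CommRing B) (_ : Algebra R B) (f : sp R B ⟶ Y), IsOpenImmersion f.left ∧
      y ∈ Set.range f.left := by
  obtain ⟨U, hU, hy, -⟩ := exists_isAffineOpen_mem_and_subset (X := Y.left) (U := ⊤) (x := y) trivial
  have : IsAffine (U : Scheme) := hU
  have : IsAffine (Over.mk (U.ι ≫ Y.hom)).left := hU
  obtain ⟨B, _, _, ⟨δ⟩⟩ := exists_iso_sp (Over.mk (U.ι ≫ Y.hom))
  refine ⟨B, inferInstance, inferInstance, δ.hom ≫ Over.homMk U.ι, ?_, ?_⟩
  · have : IsIso δ.hom.left := inferInstanceAs (IsIso ((Over.forget _).map δ.hom))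
    change IsOpenImmersion (δ.hom.left ≫ U.ι)
    infer_instance
  · have : IsIso δ.hom.left := inferInstanceAs (IsIso ((Over.forget _).map δ.hom))
    change y ∈ Set.range (δ.hom.left ≫ U.ι)
    obtain ⟨z, hz⟩ := (inferInstance : Surjective δ.hom.left).surj ⟨y, hy⟩
    refine ⟨z, ?_⟩
    rw [Scheme.Hom.comp_apply, hz]
    rfl

lemma flat_of_spMap {B B' : Type u} [CommRing B] [Algebra R B] [CommRing B'] [Algebra R B'] (φ : B →ₐ[R] B')
    (h : Flat (spMap φ).left) : φ.toRingHom.Flat := by
  have h2 : Flat (Spec.map (CommRingCat.ofHom φ.toRingHom)) := h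
  rw [HasRingHomProperty.Spec_iff (P := @Flat)] at h2
  exact h2

lemma fp_of_spMap {B B' : Type u} [CommRing B] [Algebra R B] [CommRing B'] [Algebra R B'] (φ : B →ₐ[R] B')
    (h : LocallyOfFinitePresentation (spMap φ).left) : φ.toRingHom.FinitePresentation := by
  have h2 : LocallyOfFinitePresentation (Spec.map (CommRingCat.ofHom φ.toRingHom)) := h
  rw [HasRingHomProperty.Spec_iff (P := @LocallyOfFinitePresentation)] at h2
  exact h2

lemma LocSplit.toPt {C : Type u} [CommRing C] [Algebra R C] {E : Over (Spec R)} (ε : sp R C ≅ E)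
    {P : DAct (Spec R) M E} (h : P.LocSplit) : (toPt ε P).LocSplit := by
  intro s
  obtain ⟨V, v, hfl, hfp, ⟨x, hx⟩, W, _, _, e, hI, hL⟩ := h s
  obtain ⟨A', _, _, f, hf, ⟨q, hq⟩⟩ := exists_affine (Over.mk v) x
  have hfl' : Flat (sp R A').hom := by
    rw [← Over.w f]
    change Flat (f.left ≫ v)
    infer_instance
  have hfp' : LocallyOfFinitePresentation (sp R A').hom := by
    rw [← Over.w f]
    change LocallyOfFinitePresentation (f.left ≫ v)
    infer_instance
  have h1 : Module.Flat R A' := flat_of_iso_sp (sp R A') (Iso.refl _)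
  have h2 : Algebra.FinitePresentation R A' := by
    have h2 : LocallyOfFinitePresentation (Spec.map (CommRingCat.ofHom (algebraMap R A'))) := hfp'
    rw [HasRingHomProperty.Spec_iff (P := @LocallyOfFinitePresentation)] at h2
    exact RingHom.finitePresentation_algebraMap.mp h2
  refine ⟨A', inferInstance, inferInstance, h1, h2, ⟨q, ?_⟩, W, inferInstance, inferInstance, ?_⟩
  · have h3 : (sp R A').hom q = s := by
      rw [← Over.w f, Scheme.Hom.comp_apply, hq]
      exact hx
    exact h3
  choose e' he' using fun w => exists_alg ε (f ≫ e w)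
  refine ⟨e', ?_, ?_⟩
  · intro B _ _ _ j w w' t t' H
    have H2 : spMap _ ≫ ε.hom = spMap _ ≫ ε.hom := congrArg (fun g => spMap g ≫ ε.hom) H
    rw [toPt_spec, toPt_spec, spMap_comp, spMap_comp, Category.assoc, Category.assoc, he', he'] at H2
    have hne : Nonempty (sp R B).left := inferInstanceAs (Nonempty (PrimeSpectrum B))
    obtain ⟨h3, h4⟩ := hI.comp P f (sp R B) hne (spMap j) w w' _ _ H2
    exact ⟨h3, (chr B).injective h4⟩
  · intro B _ _ j x q
    obtain ⟨Y', g, hg1, hg2, ⟨y, hy⟩, w, t, ht⟩ := hL.comp P f (sp R B) (spMap j) (spMap x ≫ ε.hom) q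
    obtain ⟨B', _, _, k, hk, ⟨q', hq'⟩⟩ := exists_affine Y' y
    obtain ⟨φ, hφ⟩ := spMap_surjective (k ≫ g)
    have hφl : (spMap φ).left = k.left ≫ g.left := by rw [hφ]; rfl
    refine ⟨B', inferInstance, inferInstance, φ, flat_of_spMap φ ?_, fp_of_spMap φ ?_, ⟨q', ?_⟩, w,
      (chr B').symm (k ≫ t), ?_⟩
    · rw [hφl]; infer_instance
    · rw [hφl]; infer_instance
    · have h3 : (spMap φ).left q' = q := by
        rw [hφl, Scheme.Hom.comp_apply, hq', hy]
      exact h3
    · apply alg_ext ε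
      rw [toPt_spec, MulEquiv.apply_symm_apply, spMap_comp, hφ, spMap_comp, spMap_comp, hφ]
      simp only [Category.assoc, he']
      have h4 : k ≫ g ≫ spMap x ≫ ε.hom = k ≫ P.act t _ := congrArg (fun z => k ≫ z) ht
      rw [P.nat] at h4
      simpa only [Category.assoc] using h4

/-- **Sections after a finite étale covering**, for schemes. -/
theorem LocSplit.exists_section {E : Over (Spec R)} [IsAffine E.left] [Module.Free ℤ M] [Module.Finite ℤ M]
    {P : DAct (Spec R) M E} (h : P.LocSplit) (hR : {m : Ideal R | m.IsMaximal}.Finite) :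
    ∃ (S' : Scheme.{u}) (f : S' ⟶ Spec R), IsFinite f ∧ Etale f ∧ Surjective f ∧
      Nonempty (Over.mk f ⟶ E) := by
  obtain ⟨C, _, _, ⟨ε⟩⟩ := exists_iso_sp E
  obtain ⟨A₁, _, _, h1, h2, h3, ⟨φ⟩⟩ := (h.toPt ε).exists_section hR
  refine ⟨_, Spec.map (CommRingCat.ofHom (algebraMap R A₁)), ?_, ?_, ?_, ⟨spMap φ ≫ ε.hom⟩⟩
  · rw [IsFinite.SpecMap_iff]
    exact RingHom.finite_algebraMap.mpr h1
  · rw [HasRingHomProperty.Spec_iff (P := @Etale)]
    exact RingHom.etale_algebraMap.mpr h2
  · exact ⟨h3⟩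

end DAct

end Groth.Agent.RedSub.H668
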