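import Groth.Agent.RedSub.H668.Adapt
import Groth.Agent.RedSub.H668.TorsSch




/-!
# Torsors under split reductive groups over a semilocal base are isotrivial

`NormLoc i n`: the finite family `n w : V ⟶ G` of points of the normalizer of `i : T ⟶ G` represents all the
cosets modulo `T`, locally.
`exists_cover`: if such families exist locally, every torsor over a semilocal base has a section over a
finite étale covering.
-/

set_option autoImplicit false
universe u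

open CategoryTheory CategoryTheory.Limits MonoidalCategory CartesianMonoidalCategory MonObj GrpObj AlgebraicGeometry
  Opposite
open Groth.Agent.Books.BorelOrb Groth.Agent.Sga3B Groth.Agent.Sga3B.BcPts Groth.Agent.Sga3B.IsoFam

namespace Groth.Agent.RedSub.H668

/-- The points `n w` of the normalizer of `i` represent the cosets modulo `T`, flat-locally. -/
structure NormLoc {S : Scheme.{u}} {G T : Over S} [GrpObj G] (i : T ⟶ G) {V : Over S} {W : Type}
    (n : W → (V ⟶ G)) : Prop where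
  nor : ∀ w, RedSub.ConjEq i i (n w)
  inj : ∀ (Y : Over S) (_ : Nonempty Y.left) (j : Y ⟶ V) (w w' : W) (t t' : Y ⟶ T),
    (t ≫ i) * (j ≫ n w) = (t' ≫ i) * (j ≫ n w') → w = w' ∧ t = t'
  loc : ∀ (Y : Over S) (j : Y ⟶ V) (g : Y ⟶ G), RedSub.ConjEq i i g → ∀ y : Y.left,
    ∃ (Y' : Over S) (f : Y' ⟶ Y), Flat f.left ∧ LocallyOfFinitePresentation f.left ∧ y ∈ Set.range f.left ∧
      ∃ (w : W) (t : Y' ⟶ T), f ≫ g = (t ≫ i) * (f ≫ j ≫ n w)

lemma NormLoc.comp {S : Scheme.{u}} {G T : Over S} [GrpObj G] {i : T ⟶ G} {V : Over S} {W : Type}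
    {n : W → (V ⟶ G)} (h : NormLoc i n) {V' : Over S} (k : V' ⟶ V) : NormLoc i fun w => k ≫ n w where
  nor w Y y := by simpa only [Category.assoc] using h.nor w Y (y ≫ k)
  inj Y hY j w w' t t' e := h.inj Y hY (j ≫ k) w w' t t' (by simpa only [Category.assoc] using e)
  loc Y j g hg y := by
    obtain ⟨Y', f, h1, h2, h3, w, t, h4⟩ := h.loc Y (j ≫ k) g hg y
    exact ⟨Y', f, h1, h2, h3, w, t, by simpa only [Category.assoc] using h4⟩

section act

variable {S : Scheme.{u}} {G X G₁ T T' : Over S} [GrpObj G] [GrpObj G₁] [GrpObj T]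
  {a : AlgGrp.Action G X} {γ : X ⊗ G₁ ⟶ G} {i : T ⟶ G} {t' : T' ⟶ G₁}

/-- a point of the commutative group `T` normalizes `T` -/
lemma conjEq_torus [IsMonHom i] (hcomm : ∀ (Y : Over S) (s t : Y ⟶ T), s * t = t * s) {Y : Over S} (t : Y ⟶ T) :
    RedSub.ConjEq i i (t ≫ i) := by
  intro Y' f
  have h : ∀ s : Y' ⟶ T, (f ≫ t ≫ i) * (s ≫ i) = (s ≫ i) * (f ≫ t ≫ i) := by
    intro s
    rw [← Category.assoc f, ← MonObj.mul_comp, ← MonObj.mul_comp, hcomm]
  constructor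
  · intro s
    exact ⟨s, by rw [h]; group⟩
  · intro s
    exact ⟨s, by rw [_root_.mul_assoc, ← h]; group⟩

variable {M : Type} [AddCommGroup M] (sp : Grp.mk T ≅ Grp.mk (Red.DS S M)) {E : Over S} {z : E ⟶ X}

/-- the point of `T` with given coordinates -/
noncomputable def tor {Y : Over S} (t : Y ⟶ Red.DS S M) : Y ⟶ T := t ≫ sp.inv.hom.hom

lemma comp_tor {Y Y' : Over S} (f : Y' ⟶ Y) (t : Y ⟶ Red.DS S M) : f ≫ tor sp t = tor sp (f ≫ t) :=
  (Category.assoc _ _ _).symm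

lemma tor_one {Y : Over S} : tor sp (1 : Y ⟶ Red.DS S M) = 1 := MonObj.one_comp _

lemma tor_mul {Y : Over S} (t s : Y ⟶ Red.DS S M) : tor sp (t * s) = tor sp t * tor sp s := MonObj.mul_comp _ _ _

lemma tor_comp_hom {Y : Over S} (t : Y ⟶ Red.DS S M) : tor sp t ≫ sp.hom.hom.hom = t := by
  rw [tor, Category.assoc]
  have h : sp.inv.hom.hom ≫ sp.hom.hom.hom = 𝟙 _ := congrArg (fun f => f.hom.hom) sp.inv_hom_id
  rw [h, Category.comp_id]

lemma tor_hom {Y : Over S} (s : Y ⟶ T) : tor sp (s ≫ sp.hom.hom.hom) = s := by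
  rw [tor, Category.assoc]
  have h : sp.hom.hom.hom ≫ sp.inv.hom.hom = 𝟙 _ := congrArg (fun f => f.hom.hom) sp.hom_inv_id
  rw [h, Category.comp_id]

lemma tor_injective {Y : Over S} {t s : Y ⟶ Red.DS S M} (h : tor sp t = tor sp s) : t = s := by
  rw [← tor_comp_hom sp t, h, tor_comp_hom]

/-- the action of `D(M)` on the scheme of adapted points -/
noncomputable def adpAct [IsMonHom i] (hI : IsInner a G₁ γ) [Mono z]
    (hcomm : ∀ (Y : Over S) (s t : Y ⟶ T), s * t = t * s)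
    (hE : ∀ (Y : Over S) (x : Y ⟶ X), (∃ e : Y ⟶ E, e ≫ z = x) ↔ Adp γ i t' x) :
    DAct S M E where
  act {Y} t x := ((hE Y (sm a (tor sp t ≫ i) (x ≫ z))).2
    (Adp.sm hI ((hE Y (x ≫ z)).1 ⟨x, rfl⟩) (conjEq_torus hcomm _))).choose
  nat {Y Y'} f t x := by
    rw [← cancel_mono z, Category.assoc, Exists.choose_spec (p := fun e => e ≫ z = _),
      Exists.choose_spec (p := fun e => e ≫ z = _), comp_sm, ← Category.assoc f, comp_tor, Category.assoc]
  one_act {Y} x := by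
    rw [← cancel_mono z, Exists.choose_spec (p := fun e => e ≫ z = _), tor_one, MonObj.one_comp, one_sm]
  mul_act {Y} t s x := by
    rw [← cancel_mono z, Exists.choose_spec (p := fun e => e ≫ z = _),
      Exists.choose_spec (p := fun e => e ≫ z = _), Exists.choose_spec (p := fun e => e ≫ z = _), tor_mul,
      MonObj.mul_comp, mul_sm]

lemma adpAct_act [IsMonHom i] (hI : IsInner a G₁ γ) [Mono z]
    (hcomm : ∀ (Y : Over S) (s t : Y ⟶ T), s * t = t * s)
    (hE : ∀ (Y : Over S) (x : Y ⟶ X), (∃ e : Y ⟶ E, e ≫ z = x) ↔ Adp γ i t' x) {Y : Over S}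
    (t : Y ⟶ Red.DS S M) (x : Y ⟶ E) :
    (adpAct sp hI hcomm hE).act t x ≫ z = sm a (tor sp t ≫ i) (x ≫ z) :=
  Exists.choose_spec (p := fun e => e ≫ z = _) _

/-- The scheme of adapted points is locally a finite disjoint union of free orbits. -/
theorem locSplit_adpAct [IsMonHom i] (ha : RedSub.IsTorsor a) (hI : IsInner a G₁ γ) [Mono z]
    (hcomm : ∀ (Y : Over S) (s t : Y ⟶ T), s * t = t * s)
    (hE : ∀ (Y : Over S) (x : Y ⟶ X), (∃ e : Y ⟶ E, e ≫ z = x) ↔ Adp γ i t' x)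
    (hx : ∀ s : S, ∃ (V : Scheme.{u}) (v : V ⟶ S), Smooth v ∧ s ∈ Set.range v ∧
      ∃ x₀ : Over.mk v ⟶ X, Adp γ i t' x₀)
    (hN : ∀ s : S, ∃ (V : Scheme.{u}) (v : V ⟶ S), Flat v ∧ LocallyOfFinitePresentation v ∧ s ∈ Set.range v ∧
      ∃ (W : Type) (_ : Fintype W) (_ : Nonempty W) (n : W → (Over.mk v ⟶ G)), NormLoc i n) :
    (adpAct sp hI hcomm hE).LocSplit := by
  intro s
  obtain ⟨V₁, v₁, hv₁, ⟨y₁, hy₁⟩, x₀, hx₀⟩ := hx s
  obtain ⟨V₂, v₂, hv₂, hv₂', ⟨y₂, hy₂⟩, W, _, _, n, hn⟩ := hN s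
  obtain ⟨w, hw1, hw2⟩ := Scheme.Pullback.exists_preimage_pullback (f := v₁) (g := v₂) y₁ y₂
    (hy₁.trans hy₂.symm)
  let p₁ : Over.mk (pullback.fst v₁ v₂ ≫ v₁) ⟶ Over.mk v₁ := Over.homMk (pullback.fst v₁ v₂)
  let p₂ : Over.mk (pullback.fst v₁ v₂ ≫ v₁) ⟶ Over.mk v₂ := Over.homMk (pullback.snd v₁ v₂)
    pullback.condition.symm
  have hn' := hn.comp p₂
  have hx' := hx₀.comp p₁
  have hadp : ∀ w, Adp γ i t' (sm a (p₂ ≫ n w) (p₁ ≫ x₀)) := fun w => Adp.sm hI hx' (hn'.nor w)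
  choose e he using fun w => (hE _ _).2 (hadp w)
  have hfl : Flat (pullback.fst v₁ v₂ ≫ v₁) := inferInstance
  refine ⟨_, pullback.fst v₁ v₂ ≫ v₁, hfl, inferInstance, ⟨w, ?_⟩, W, inferInstance, inferInstance, e, ?_, ?_⟩
  · rw [Scheme.Hom.comp_apply, hw1, hy₁]
  · intro Y hY j w w' t t' h
    have h2 := congrArg (fun f => f ≫ z) h
    beta_reduce at h2
    rw [adpAct_act, adpAct_act, Category.assoc, Category.assoc, he, he, comp_sm, comp_sm, ← mul_sm,
      ← mul_sm] at h2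
    have h3 := sm_injective ha _ h2
    obtain ⟨h4, h5⟩ := hn'.inj Y hY j w w' _ _ h3
    exact ⟨h4, tor_injective sp h5⟩
  · intro Y j x y
    have h1 : Adp γ i t' (x ≫ z) := (hE _ _).1 ⟨x, rfl⟩
    have h2 : Adp γ i t' (j ≫ p₁ ≫ x₀) := hx'.comp j
    obtain ⟨Y', f, h3, h4, h5, w, t, h6⟩ := hn'.loc Y j _ (Adp.conjEq ha hI h1 h2) y
    refine ⟨Y', f, h3, h4, h5, w, t ≫ sp.hom.hom.hom, ?_⟩
    rw [← cancel_mono z, adpAct_act, tor_hom]
    have h7 := congrArg (fun g => sm a g (f ≫ j ≫ p₁ ≫ x₀)) h6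
    beta_reduce at h7
    rw [← comp_sm, sm_dif, mul_sm] at h7
    rw [Category.assoc, h7]
    congr 1
    simp only [Category.assoc]
    rw [he, comp_sm, comp_sm]

end act

end Groth.Agent.RedSub.H668
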