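import Groth.Agent.RedSub.H668.AdaptLoc
import Groth.Agent.RedSub.H668.Isotriv
import Groth.Agent.Sga3B.MT.Final824
import Groth.Agent.Sga3B.SplitGlue904
import Groth.Agent.Sga3B.SplitNhd885
import Groth.Agent.Sga3B.TorClosed636

/-!
# Torsors under split reductive groups over a semilocal base are isotrivial: the reduction

Given the local structure of the normalizer of the maximal torus of a splitting (`NormLoc`), every torsor
over a semilocal base has a section over a finite étale covering.
-/

set_option autoImplicit false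
universe u

open CategoryTheory CategoryTheory.Limits MonoidalCategory CartesianMonoidalCategory MonObj GrpObj AlgebraicGeometry
  Opposite
open Groth.Agent.Books.BorelOrb Groth.Agent.Sga3B Groth.Agent.Sga3B.BcPts Groth.Agent.Sga3B.IsoFam

namespace Groth.Agent.RedSub.H668

/-- **Isotriviality of torsors** under split reductive groups, from the local structure of the normalizer. -/
theorem exists_finite_etale {A : Type u} [CommRing A] (hA : {m : Ideal A | m.IsMaximal}.Finite)
    {G X : Over (Spec (CommRingCat.of A))} [GrpObj G] (D : Red.SplitRed G) (a : AlgGrp.Action G X)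
    (ha : RedSub.IsTorsor a)
    (hN : ∀ s : Spec (CommRingCat.of A), ∃ (V : Scheme.{u}) (v : V ⟶ Spec (CommRingCat.of A)), Flat v ∧
      LocallyOfFinitePresentation v ∧ s ∈ Set.range v ∧
        ∃ (W : Type) (_ : Fintype W) (_ : Nonempty W) (n : W → (Over.mk v ⟶ G)), NormLoc D.i n) :
    ∃ (S' : Scheme.{u}) (f : S' ⟶ Spec (CommRingCat.of A)), IsFinite f ∧ Etale f ∧ Surjective f ∧
      RedSub.HasSection (Red.bc f X) := by
  have hG := D.reductive
  obtain ⟨G₁, _, gam, hI⟩ := exists_inner ha hG.1 hG.2.1
  have hG₁ : Red.IsReductive G₁ := isReductive_of_inner ha hI hG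
  have h : SplitGlue904.SplitTRed.{u} := SplitGlue904.splitTRed_of_aff
    fun hG i hT hs q => by
      obtain ⟨w, hw, D, hD, τ, hτ⟩ := SplitNhd885.splitAff hG i hT hs q
      exact ⟨w, hw, D, τ, hD, hτ⟩
  obtain ⟨T', _, t', ht, htc⟩ := MT.exists_maximalTorus_semilocal hA hG₁
    fun s => SplitGlue904.splitNear_of_red h G₁ hG₁ s
  have hT := D.maximalTorus.2.2.1
  have hT' := ht.2.2.1
  have := TorusAlgClosed.smooth_of_isTorus hT
  have := TorusIrr.geometricallyIrreducible_of_isTorus hT
  have := TorusAlgClosed.smooth_of_isTorus hT'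
  have := TorusIrr.geometricallyIrreducible_of_isTorus hT'
  have : IsMonHom D.i := D.maximalTorus.1
  have : IsClosedImmersion D.i.left := TorClosed636.isClosedImmersion_of_isMaximalTorus hG D.maximalTorus
  obtain ⟨E, z, hz, hE⟩ := exists_adp (i := D.i) (t' := t') hI
  have : Mono z := Over.mono_of_mono_left z
  have h1 := locSplit_adpAct D.split ha hI (z := z)
    (fun Y s t => MaxTorNear900.mul_comm_of_isTorus hT Y s t) hE
    (exists_adp_point ha hI hG D.maximalTorus ht) hN
  have h2 : IsAffineHom X.hom := isAffineHom_of_torsor ha hG.1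
  have h3 : IsAffine E.left := by
    have h4 : IsAffine X.left := isAffine_of_isAffineHom X.hom
    exact isAffine_of_isAffineHom z.left
  obtain ⟨S', f, hf1, hf2, hf3, ⟨x⟩⟩ := h1.exists_section hA
  refine ⟨S', f, hf1, hf2, hf3, ⟨?_⟩⟩
  let ε : (Over.map f).obj (𝟙_ (Over S')) ≅ Over.mk f := Over.isoMk (Iso.refl _) (by simp)
  exact bcEquiv f (𝟙_ _) X (ε.hom ≫ x ≫ z)

end Groth.Agent.RedSub.H668
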