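import Groth.Agent.RedSub.H638.WeylCover

/-!
# The normalizer of the torus in a pinned group, on points

`E : PinCell P b R A`.  A point `g` normalizing the torus is Zariski-locally of the form `nw l * t`, with
`nw l` a word in the `n_a`; the latter acts on the torus through `wact P l : M →+ M`.
-/

set_option autoImplicit false
set_option linter.unusedSectionVars false
universe u

namespace Groth.Agent.RedSub.H668.NormCell

open Groth.Agent.Sga3B Groth.Agent.Sga3B.Cell Groth.Agent.Sga3B.Word
open Groth.Agent.RedSub.H638.WeylBase Groth.Agent.RedSub.H638.WeylCover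

section word

variable {idx M : Type} [AddCommGroup M] (P : RootPairing idx ℤ M (Module.Dual ℤ M))

/-- the reflection as an additive map -/
def srefl (a : idx) : M →+ M := (P.reflection a).toLinearMap.toAddMonoidHom

/-- the product of reflections along a word -/
def wact (l : List idx) : M →+ M := l.foldr (fun a f => f.comp (srefl P a)) (AddMonoidHom.id M)

@[simp] lemma wact_nil : wact P [] = AddMonoidHom.id M := rfl

@[simp] lemma wact_cons (a : idx) (l : List idx) : wact P (a :: l) = (wact P l).comp (srefl P a) := rfl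

lemma srefl_apply (a : idx) (m : M) : srefl P a m = m - P.toPerfPair m (P.coroot a) • P.root a := rfl

end word

variable {idx M : Type} [Fintype idx] [AddCommGroup M] [Module.Free ℤ M]
    [Module.Finite ℤ M] {P : RootPairing idx ℤ M (Module.Dual ℤ M)} {b : P.Base}
    {R A : Type u} [CommRing R] [CommRing A] [Algebra R A] [PtGrp R A] (E : PinCell P b R A)
    {B : Type u} [CommRing B] [Algebra R B]

/-- `g` normalizes the torus -/
def Nor (g : Pt R A B) : Prop :=
  ∀ (C : Type u) [CommRing C] [Algebra R C] (φ : B →ₐ[R] C) (t : TPt M C), ∃ t' : TPt M C,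
    Pt.map φ g * E.i C t * (Pt.map φ g)⁻¹ = E.i C t'

variable {E}

lemma Nor.map {g : Pt R A B} (h : Nor E g) {C : Type u} [CommRing C] [Algebra R C] (φ : B →ₐ[R] C) :
    Nor E (Pt.map φ g) := by
  intro D _ _ ψ t
  have h1 : Pt.map ψ (Pt.map φ g) = Pt.map (ψ.comp φ) g := rfl
  rw [h1]
  exact h D (ψ.comp φ) t

/-- the action of a word on the torus -/
lemma nw_conj_i {l : List idx} (hl : ∀ a ∈ l, a ∈ b.support) (t : TPt M B) :
    nw E B l * E.i B t * (nw E B l)⁻¹ = E.i B (t.comp (AddMonoidHom.toMultiplicative (wact P l))) := by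
  induction l with
  | nil =>
    rw [nw_nil, one_mul, inv_one, mul_one]
    congr 1
  | cons a l ih =>
    have ih' := ih (fun c hc => hl c (List.mem_cons_of_mem _ hc))
    have e : nw E B (a :: l) * E.i B t * (nw E B (a :: l))⁻¹ =
        E.nn a B * (nw E B l * E.i B t * (nw E B l)⁻¹) * (E.nn a B)⁻¹ := by
      rw [nw_cons]; group
    rw [e, ih', nn_conj_i E (hl a List.mem_cons_self)]
    congr 1
    apply TPt.ext_ch
    intro m
    have h1 : P.toPerfPair m (P.coroot a) = P.coroot a m := by
      have := congrArg (fun f => f m (P.coroot a)) E.pairing_eq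
      exact this
    change ((t (Multiplicative.ofAdd (wact P l m)) *
      (TPt.cow (P.coroot a) (t (Multiplicative.ofAdd (wact P l (P.root a)))) (Multiplicative.ofAdd m))⁻¹ : Bˣ) : B) =
      ((t (Multiplicative.ofAdd (wact P l (srefl P a m))) : Bˣ) : B)
    congr 1
    rw [srefl_apply, h1, map_sub, map_zsmul, ofAdd_sub, map_div, ofAdd_zsmul, map_zpow, div_eq_mul_inv]
    rfl

/-- a point of the big cell normalizing the torus is in the torus -/
lemma eq_i_of_nor_cell {x : idx → B} {t : TPt M B} (h : Nor E (E.cell x t)) : E.cell x t = E.i B t := by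
  have hx : x = 0 := by
    -- the universal character
    let C := MonoidAlgebra B (Multiplicative M)
    let φ : B →ₐ[R] C := IsScalarTower.toAlgHom R B C
    let s : TPt M C := MonoidHom.toHomUnits (MonoidAlgebra.of B (Multiplicative M))
    obtain ⟨s', hs'⟩ := h C φ s
    have h0 : Pt.map φ (E.cell x t) = E.cell (fun a => φ (x a)) (TPt.map φ t) := E.cell_nat φ x t
    rw [mul_inv_eq_iff_eq_mul, h0] at hs'
    have h1 : E.cell (fun a => φ (x a)) (TPt.map φ t) * E.i C s = E.cell (fun a => φ (x a)) (TPt.map φ t * s) :=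
      E.toDatum.cell_mul_i (allList b) (fun a => φ (x a)) (TPt.map φ t) s
    have h2 : E.i C s' * E.cell (fun a => φ (x a)) (TPt.map φ t) =
        E.cell (fun a => TPt.ch (P.root a) s' * φ (x a)) (s' * TPt.map φ t) :=
      E.toDatum.i_mul_cell (allList b) (fun a => φ (x a)) (TPt.map φ t) s'
    have h3 := h1.symm.trans (hs'.trans h2)
    obtain ⟨h4, h5⟩ := E.cell_inj _ _ _ _ h3
    have h6 : s' = s := by
      apply TPt.ext_ch
      intro m
      have h7 : TPt.ch m (TPt.map φ t) * TPt.ch m s = TPt.ch m s' * TPt.ch m (TPt.map φ t) :=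
        congrArg (TPt.ch m) h5
      rw [mul_comm] at h7
      exact ((TPt.isUnit_ch m (TPt.map φ t)).mul_left_inj.mp h7).symm
    subst h6
    funext a
    have h8 : MonoidAlgebra.single 1 (x a) = MonoidAlgebra.single (Multiplicative.ofAdd (P.root a)) (1 : B) *
      MonoidAlgebra.single 1 (x a) := congrFun h4 a
    rw [MonoidAlgebra.single_mul_single, mul_one, one_mul] at h8
    have h9 : (MonoidAlgebra.single (1 : Multiplicative M) (x a)).coeff 1 =
      (MonoidAlgebra.single (Multiplicative.ofAdd (P.root a)) (x a)).coeff 1 := congrArg (fun z => z.coeff 1) h8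
    rw [MonoidAlgebra.coeff_single, MonoidAlgebra.coeff_single, Finsupp.single_eq_same,
      Finsupp.single_eq_of_ne] at h9
    · exact h9
    · intro h10
      exact P.ne_zero a (congrArg Multiplicative.toAdd h10).symm
  subst hx
  exact E.toDatum.cell_zero (allList b) t

lemma nor_nw_inv_mul {l : List idx} (hl : ∀ a ∈ l, a ∈ b.support) {g : Pt R A B} (h : Nor E g) :
    Nor E ((nw E B l)⁻¹ * g) := by
  intro C _ _ φ t
  obtain ⟨t₁, h₁⟩ := h C φ t
  obtain ⟨t₂, h₂⟩ := conj_nw_inv_i E hl t₁
  refine ⟨t₂, ?_⟩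
  rw [← h₂, ← h₁, Pt.map_mul, Pt.map_inv, nw_nat]
  group

/-- **Normalizing points are Zariski-locally words times torus elements.** -/
theorem exists_away {g : Pt R A B} (hg : Nor E g) (p : PrimeSpectrum B) :
    ∃ f : B, f ∉ p.asIdeal ∧ ∃ l : List idx, (∀ a ∈ l, a ∈ b.support) ∧
      ∃ t : TPt M (Localization.Away f),
        Pt.map (IsScalarTower.toAlgHom R B (Localization.Away f)) g =
          nw E (Localization.Away f) l * E.i (Localization.Away f) t := by
  let K := AlgebraicClosure p.asIdeal.ResidueField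
  let φ : B →ₐ[R] K := IsScalarTower.toAlgHom R B K
  have hker : ∀ f : B, φ f = 0 → f ∈ p.asIdeal := by
    intro f hf
    have h1 : algebraMap p.asIdeal.ResidueField K (algebraMap B p.asIdeal.ResidueField f) = 0 := hf
    rw [map_eq_zero_iff _ (algebraMap p.asIdeal.ResidueField K).injective] at h1
    exact Ideal.algebraMap_residueField_eq_zero.mp h1
  obtain ⟨l, hl, x, t, h⟩ := exists_translate E (Pt.map φ g)
  let h' : Pt R A B := (nw E B l)⁻¹ * g
  have hh' : Pt.map φ h' = E.cell x t := by
    rw [Pt.map_mul, Pt.map_inv, nw_nat, h, inv_mul_cancel_left]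
  have h2 : E.cellIdeal.map (Pt.map φ h').hom.toRingHom = ⊤ := by
    rw [← E.mem_cell_iff]
    exact ⟨x, t, hh'⟩
  have h3 : E.cellIdeal.map (Pt.map φ h').hom.toRingHom =
      (E.cellIdeal.map h'.hom.toRingHom).map (φ : B →+* K) := by
    rw [Ideal.map_map]; rfl
  obtain ⟨f, hf1, hf2⟩ : ∃ f ∈ E.cellIdeal.map h'.hom.toRingHom, φ f ≠ 0 := by
    by_contra hne
    push Not at hne
    have h4 : (E.cellIdeal.map h'.hom.toRingHom).map (φ : B →+* K) ≤ ⊥ := by
      rw [Ideal.map_le_iff_le_comap]
      intro x hx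
      exact hne x hx
    rw [← h3, h2] at h4
    exact bot_ne_top (top_le_iff.mp h4)
  refine ⟨f, fun hf => hf2 ?_, l, hl, ?_⟩
  · have h5 : algebraMap B p.asIdeal.ResidueField f = 0 := Ideal.algebraMap_residueField_eq_zero.mpr hf
    change algebraMap p.asIdeal.ResidueField K (algebraMap B p.asIdeal.ResidueField f) = 0
    rw [h5, map_zero]
  · let C := Localization.Away f
    let ψ : B →ₐ[R] C := IsScalarTower.toAlgHom R B C
    have h6 : ∃ (x : idx → C) (t : TPt M C), Pt.map ψ h' = E.cell x t := by
      change ∃ (x : idx → C) (t : TPt M C), Pt.map ψ h' =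
        ((allList b).map (fun a => E.uu a C (x a))).prod * E.i C t
      rw [E.mem_cell_iff]
      have h7 : E.cellIdeal.map (Pt.map ψ h').hom.toRingHom =
          (E.cellIdeal.map h'.hom.toRingHom).map (ψ : B →+* C) := by
        rw [Ideal.map_map]; rfl
      rw [h7]
      exact Ideal.eq_top_of_isUnit_mem _ (Ideal.mem_map_of_mem _ hf1)
        (IsLocalization.Away.algebraMap_isUnit f)
    obtain ⟨x', t', h8⟩ := h6
    have h9 : Nor E (E.cell x' t') := by
      rw [← h8]
      exact (nor_nw_inv_mul hl hg).map ψ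
    refine ⟨t', ?_⟩
    rw [← eq_i_of_nor_cell h9, ← h8, Pt.map_mul, Pt.map_inv, nw_nat, mul_inv_cancel_left]

end Groth.Agent.RedSub.H668.NormCell
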