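import Groth.Agent.RedSub.H668.NormWeyl
import Groth.Agent.RedSub.H668.Isotriv
import Groth.Agent.RedSub.H666.WeylFin
import Groth.Agent.Sga3B.TorClosed636
import Groth.Agent.Sga3B.SplitRedField415

/-!
# The local structure of the normalizer of the maximal torus of a splitting

`exists_normLoc`: `D : SplitRed G` over `S`, `s : S`: over an open neighbourhood of `s` there is a finite family of points of
the normalizer of the torus representing all the cosets (`NormLoc`).
-/

set_option autoImplicit false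
universe u

open CategoryTheory CategoryTheory.Limits MonoidalCategory CartesianMonoidalCategory MonObj GrpObj AlgebraicGeometry
  Opposite

namespace Groth.Agent.RedSub.H668

open Groth.Agent.Sga3B Groth.Agent.Sga3B.Cell Groth.Agent.Sga3B.PinMod Groth.Agent.Sga3B.DSPts
  Groth.Agent.Sga3B.PinFinal Groth.Agent.RedSub.H668.NormCell

variable {S : Scheme.{u}}

lemma pt_DSmap_id {M : Type} [AddCommGroup M] {Y : Over S} (x : Y ⟶ Red.DS S M) :
    x ≫ Red.DSmap S (AddMonoidHom.id M) = x := by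
  apply (dsEquiv Y M).symm.injective
  change dsChar _ = dsChar _
  rw [dsChar_DSmap]
  rfl

lemma pt_DSmap_comp {M N L : Type} [AddCommGroup M] [AddCommGroup N] [AddCommGroup L] (φ : M →+ N) (ψ : N →+ L)
    {Y : Over S} (x : Y ⟶ Red.DS S L) :
    (x ≫ Red.DSmap S ψ) ≫ Red.DSmap S φ = x ≫ Red.DSmap S (ψ.comp φ) := by
  apply (dsEquiv Y M).symm.injective
  change dsChar _ = dsChar _
  rw [dsChar_DSmap, dsChar_DSmap, dsChar_DSmap]
  rfl

@[reassoc]
lemma DSmap_comp_DSmap {M N L : Type} [AddCommGroup M] [AddCommGroup N] [AddCommGroup L] (φ : M →+ N) (ψ : N →+ L) :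
    Red.DSmap S ψ ≫ Red.DSmap S φ = Red.DSmap S (ψ.comp φ) := by
  simpa using pt_DSmap_comp φ ψ (𝟙 (Red.DS S L))

/-- `M ↦ D(M)` is faithful over a non empty base -/
lemma eq_of_DSmap_eq {M N : Type} [AddCommGroup M] [AddCommGroup N] (θ θ' : M →+ N) {Y : Over S}
    [Nonempty Y.left] (h : ∀ (Z : Over S) (_ : Z ⟶ Y) (t : Z ⟶ Red.DS S N),
      t ≫ Red.DSmap S θ = t ≫ Red.DSmap S θ') : θ = θ' := by
  obtain ⟨y⟩ := ‹Nonempty Y.left›
  let K : Type u := Y.left.residueField y
  let s : Spec (CommRingCat.of K) ⟶ S := Y.left.fromSpecResidueField y ≫ Y.hom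
  let C : Type u := MonoidAlgebra K (Multiplicative N)
  let k : tB s C ⟶ Y := Over.homMk (Spec.map (CommRingCat.ofHom (algebraMap K C)) ≫ Y.left.fromSpecResidueField y)
    (Category.assoc _ _ _)
  let t : TPt N C := MonoidHom.toHomUnits (MonoidAlgebra.of K (Multiplicative N))
  have h1 := h _ k (dsEquiv (tB s C) N (chΓ s t))
  rw [dsEquiv_DSmap, dsEquiv_DSmap] at h1
  have h2 := (dsEquiv (tB s C) M).injective h1
  ext m
  have h3 : chΓ s t (Multiplicative.ofAdd (θ m)) = chΓ s t (Multiplicative.ofAdd (θ' m)) :=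
    DFunLike.congr_fun h2 (Multiplicative.ofAdd m)
  have h4 : fnOf s ((t (Multiplicative.ofAdd (θ m)) : Cˣ) : C) = fnOf s ((t (Multiplicative.ofAdd (θ' m)) : Cˣ) : C) := h3
  have h5 := fnOf_injective s h4
  have h6 : MonoidAlgebra.single (Multiplicative.ofAdd (θ m)) (1 : K) =
    MonoidAlgebra.single (Multiplicative.ofAdd (θ' m)) (1 : K) := h5
  exact Multiplicative.ofAdd.injective (MonoidAlgebra.of_injective h6)

lemma grp_aux {H : Type*} [Group H] {x n t y : H} (h1 : x * t = y * x) (h2 : n * t = y * n) :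
    (n⁻¹ * x) * t = t * (n⁻¹ * x) := by
  have h3 : y = n * t * n⁻¹ := by rw [h2]; group
  rw [_root_.mul_assoc, h1, h3]
  group

section

variable {G : Over S} [GrpObj G] (D : Red.SplitRed G)

/-- the automorphism of the torus attached to `θ` -/
noncomputable def tact (θ : D.M →+ D.M) {Y : Over S} (t : Y ⟶ D.T) : Y ⟶ D.T :=
  t ≫ D.split.hom.hom.hom ≫ Red.DSmap S θ ≫ D.split.inv.hom.hom

variable {D}

lemma actsBy_iff {Y : Over S} {g : Y ⟶ G} {θ : D.M →+ D.M} : ActsBy D g θ ↔
    ∀ (Z : Over S) (k : Z ⟶ Y) (t : Z ⟶ D.T), (k ≫ g) * (t ≫ D.i) * (k ≫ g)⁻¹ = tact D θ t ≫ D.i := by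
  simp only [ActsBy, tact, Category.assoc]

lemma tact_id {Y : Over S} (t : Y ⟶ D.T) : tact D (AddMonoidHom.id D.M) t = t := by
  rw [tact, ← Category.assoc, ← Category.assoc, pt_DSmap_id, Category.assoc, split_hom_inv, Category.comp_id]

lemma tact_tact (θ θ' : D.M →+ D.M) {Y : Over S} (t : Y ⟶ D.T) :
    tact D θ (tact D θ' t) = tact D (θ'.comp θ) t := by
  simp only [tact, Category.assoc]
  rw [← Category.assoc D.split.inv.hom.hom, split_inv_hom, Category.id_comp, DSmap_comp_DSmap_assoc]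

lemma comp_tact (θ : D.M →+ D.M) {Y Y' : Over S} (f : Y' ⟶ Y) (t : Y ⟶ D.T) :
    f ≫ tact D θ t = tact D θ (f ≫ t) := by
  rw [tact, tact, Category.assoc]

lemma srefl_comp_srefl (a : D.idx) : (srefl D.P a).comp (srefl D.P a) = AddMonoidHom.id D.M := by
  ext m
  exact D.P.reflection_same a m

lemma ActsBy.one {Y : Over S} : ActsBy D (1 : Y ⟶ G) (AddMonoidHom.id D.M) := by
  rw [actsBy_iff]
  intro Z k t
  rw [MonObj.comp_one, tact_id]
  group

lemma ActsBy.mul {Y : Over S} {g g' : Y ⟶ G} {θ θ' : D.M →+ D.M} (h : ActsBy D g θ) (h' : ActsBy D g' θ') :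
    ActsBy D (g * g') (θ'.comp θ) := by
  rw [actsBy_iff] at h h' ⊢
  intro Z k t
  have e : k ≫ (g * g') * (t ≫ D.i) * (k ≫ (g * g'))⁻¹ =
      (k ≫ g) * ((k ≫ g') * (t ≫ D.i) * (k ≫ g')⁻¹) * (k ≫ g)⁻¹ := by
    rw [MonObj.comp_mul]; group
  rw [e, h', h, tact_tact]

lemma ActsBy.conjEq {Y : Over S} {g : Y ⟶ G} {θ θ' : D.M →+ D.M} (h : ActsBy D g θ)
    (_h1 : θ.comp θ' = AddMonoidHom.id _) (h2 : θ'.comp θ = AddMonoidHom.id _) : RedSub.ConjEq D.i D.i g := by
  rw [actsBy_iff] at h
  intro Z k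
  refine ⟨fun t => ⟨_, h Z k t⟩, fun t => ⟨tact D θ' t, ?_⟩⟩
  have h3 := h Z k (tact D θ' t)
  rw [tact_tact, h2, tact_id] at h3
  rw [← h3]
  group

/-- points acting through words -/
lemma exists_pt (l : List D.idx) : ∃ n : 𝟙_ (Over S) ⟶ G, ActsBy D n (wact D.P l) := by
  induction l with
  | nil => exact ⟨1, ActsBy.one⟩
  | cons a l ih =>
    obtain ⟨n, hn⟩ := ih
    obtain ⟨n', hn'⟩ := D.refl a
    refine ⟨n' * n, ?_⟩
    have h1 : ActsBy D n' (srefl D.P a) := by
      intro Z k t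
      rw [toUnit_unique k (toUnit Z)]
      exact hn' Z t
    exact h1.mul hn

/-- words are invertible -/
lemma exists_inv_word (l : List D.idx) : ∃ l' : List D.idx,
    (wact D.P l).comp (wact D.P l') = AddMonoidHom.id _ ∧ (wact D.P l').comp (wact D.P l) = AddMonoidHom.id _ := by
  induction l with
  | nil => exact ⟨[], rfl, rfl⟩
  | cons a l ih =>
    obtain ⟨l', h1, h2⟩ := ih
    have h3 : ∀ m : List D.idx, wact D.P (m ++ [a]) = (srefl D.P a).comp (wact D.P m) := by
      intro m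
      induction m with
      | nil => rfl
      | cons c m ihm => rw [List.cons_append, wact_cons, ihm, wact_cons]; rfl
    have h4 := srefl_comp_srefl a
    refine ⟨l' ++ [a], ?_, ?_⟩
    · rw [h3, wact_cons]
      calc ((wact D.P l).comp (srefl D.P a)).comp ((srefl D.P a).comp (wact D.P l')) =
          (wact D.P l).comp (((srefl D.P a).comp (srefl D.P a)).comp (wact D.P l')) := rfl
        _ = AddMonoidHom.id _ := by rw [h4, AddMonoidHom.id_comp, h1]
    · rw [h3, wact_cons]
      calc ((srefl D.P a).comp (wact D.P l')).comp ((wact D.P l).comp (srefl D.P a)) =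
          (srefl D.P a).comp (((wact D.P l').comp (wact D.P l)).comp (srefl D.P a)) := rfl
        _ = AddMonoidHom.id _ := by rw [h2, AddMonoidHom.id_comp, h4]

lemma finite_wact : Set.Finite {θ : D.M →+ D.M | ∃ l : List D.idx, θ = wact D.P l} := by
  refine (H666.WeylFin.finite_words D.P).subset ?_
  rintro _ ⟨l, rfl⟩
  refine ⟨l.reverse, ?_⟩
  have h3 : ∀ (m : List D.idx) (a : D.idx), H666.WeylFin.wd D.P (m ++ [a]) =
      (H666.WeylFin.wd D.P m).comp (srefl D.P a) := by
    intro m a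
    induction m with
    | nil => rfl
    | cons c m ihm =>
      ext x
      rw [List.cons_append, H666.WeylFin.wd_cons, ihm]
      rfl
  change _ = H666.WeylFin.wd D.P l.reverse
  induction l with
  | nil => rfl
  | cons a l ih => rw [wact_cons, ih, List.reverse_cons, h3]

/-- **The local structure of the normalizer.** -/
theorem exists_normLoc (s : S) : ∃ (V : Scheme.{u}) (v : V ⟶ S), Flat v ∧ LocallyOfFinitePresentation v ∧
    s ∈ Set.range v ∧ ∃ (W : Type) (_ : Fintype W) (_ : Nonempty W) (n : W → (Over.mk v ⟶ G)), NormLoc D.i n := by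
  have : Nonempty S := ⟨s⟩
  have hred : D.P.IsReduced := SplitReduced415.isReduced D
  obtain ⟨b⟩ := BaseZ.nonempty_base D.P
  let D' : Red.Pinning G := { D with base := b }
  obtain ⟨U, hU, hs, -⟩ := exists_isAffineOpen_mem_and_subset (X := S) (U := ⊤) (x := s) trivial
  have hfin := finite_wact (D := D)
  let W : Type := {θ : D.M →+ D.M // ∃ l : List D.idx, θ = wact D.P l}
  have : Finite W := hfin
  have : Fintype W := Fintype.ofFinite W
  choose n hn using fun w : W => (show ∃ n : 𝟙_ (Over S) ⟶ G, ActsBy D n w.1 by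
    obtain ⟨l, hl⟩ := w.2
    rw [hl]
    exact exists_pt l)
  have : IsMonHom D.i := D.maximalTorus.1
  have : Mono D.i := D.maximalTorus.2.1
  have hcent := TorClosed636.isCentralizerOf_self D.reductive D.maximalTorus
  have hcomm := MaxTorNear900.mul_comm_of_isTorus D.maximalTorus.2.2.1
  refine ⟨_, hU.fromSpec, inferInstance, inferInstance, ?_, W, inferInstance, ⟨⟨_, [], rfl⟩⟩,
    fun w => toUnit _ ≫ n w, ?_, ?_, ?_⟩
  · rw [hU.range_fromSpec]
    exact hs
  · intro w
    obtain ⟨l, hl⟩ := w.2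
    obtain ⟨l', h1, h2⟩ := exists_inv_word l
    have h3 := (hn w).comp (toUnit (Over.mk hU.fromSpec))
    rw [hl] at h3
    exact h3.conjEq h1 h2
  · intro Y hY j w w' t t' h
    have hT : ∀ (t : Y ⟶ D.T), ActsBy D (t ≫ D.i) (AddMonoidHom.id D.M) := by
      intro t
      rw [actsBy_iff]
      intro Z k x
      rw [tact_id, ← Category.assoc, ← MonObj.mul_comp, hcomm, MonObj.mul_comp]
      group
    have h1 : ActsBy D ((t ≫ D.i) * (j ≫ toUnit _ ≫ n w)) (w.1.comp (AddMonoidHom.id _)) :=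
      (hT t).mul (((hn w).comp (toUnit _)).comp j)
    have h2 : ActsBy D ((t' ≫ D.i) * (j ≫ toUnit _ ≫ n w')) (w'.1.comp (AddMonoidHom.id _)) :=
      (hT t').mul (((hn w').comp (toUnit _)).comp j)
    have h3 : w.1 = w'.1 := by
      apply eq_of_DSmap_eq w.1 w'.1 (Y := Y)
      intro Z k x
      rw [h, AddMonoidHom.comp_id, actsBy_iff] at h1
      rw [AddMonoidHom.comp_id, actsBy_iff] at h2
      have h4 := (h1 Z k (x ≫ D.split.inv.hom.hom)).symm.trans (h2 Z k (x ≫ D.split.inv.hom.hom))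
      rw [cancel_mono] at h4
      have h5 := congrArg (fun z => z ≫ D.split.hom.hom.hom) h4
      simp only [tact, Category.assoc, split_inv_hom, Category.comp_id] at h5
      rw [← Category.assoc D.split.inv.hom.hom, split_inv_hom, Category.id_comp,
        ← Category.assoc D.split.inv.hom.hom, split_inv_hom, Category.id_comp] at h5
      exact h5
    have h5 : w = w' := Subtype.ext h3
    subst h5
    refine ⟨rfl, ?_⟩
    have h6 := mul_right_cancel h
    exact (cancel_mono D.i).1 h6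
  · intro Y j g hg y
    obtain ⟨Y', f, hf, hy, l, hl⟩ := exists_word D' hU.fromSpec j g hg y
    let w : W := ⟨wact D.P l, l, rfl⟩
    have hl' : ActsBy D (f ≫ g) (wact D.P l) := hl
    have hw : ActsBy D (toUnit Y' ≫ n w) (wact D.P l) := (hn w).comp _
    rw [actsBy_iff] at hl' hw
    obtain ⟨τ, hτ⟩ := (hcent.2.2 Y' ((toUnit Y' ≫ n w)⁻¹ * (f ≫ g))).2 (by
      intro Z k t
      have h1 := hl' Z k t
      have h2 := hw Z k t
      rw [mul_inv_eq_iff_eq_mul] at h1 h2
      rw [MonObj.comp_mul, GrpObj.comp_inv]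
      exact grp_aux h1 h2)
    refine ⟨Y', f, inferInstance, inferInstance, hy, w, tact D (wact D.P l) τ, ?_⟩
    have h3 := hw Y' (𝟙 _) τ
    rw [Category.id_comp] at h3
    have h4 : f ≫ j ≫ toUnit _ ≫ n w = toUnit Y' ≫ n w := by
      rw [← Category.assoc, ← Category.assoc]
      congr 1
      exact toUnit_unique _ _
    rw [h4, ← h3, hτ]
    group

end

end Groth.Agent.RedSub.H668
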