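import Groth.Agent.RedSub.H668.NormCell
import Groth.Agent.Sga3B.PinModelOf
import Groth.Prelude.Def_RedSub

/-!
# The normalizer of the maximal torus of a pinned group scheme

A point `g` of `G` normalizing the maximal torus `T` of a pinning acts Zariski-locally on `T ≅ D(M)` through
a product of reflections `wact P l : M →+ M`.
-/

set_option autoImplicit false
universe u

open CategoryTheory CategoryTheory.Limits MonoidalCategory CartesianMonoidalCategory MonObj GrpObj AlgebraicGeometry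
  Opposite

namespace Groth.Agent.RedSub.H668

open Groth.Agent.Sga3B Groth.Agent.Sga3B.Cell Groth.Agent.Sga3B.PinMod Groth.Agent.Sga3B.DSPts
  Groth.Agent.Sga3B.PinFinal Groth.Agent.RedSub.H668.NormCell Groth.Agent.RedSub.H638.WeylBase

variable {S : Scheme.{u}}

section aff

variable {R : Type u} [CommRing R] (s : Spec (CommRingCat.of R) ⟶ S)

/-- the structure morphism of `tB s B` -/
noncomputable def str (B : Type u) [CommRing B] [Algebra R B] : tB s B ⟶ Over.mk s :=
  Over.homMk (Spec.map (CommRingCat.ofHom (algebraMap R B)))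

/-- an affine scheme over `Over.mk s`, as an algebra -/
lemma exists_tB {Y : Over S} (j : Y ⟶ Over.mk s) {B : Type u} [CommRing B]
    (k : Spec (CommRingCat.of B) ⟶ Y.left) :
    ∃ (_ : Algebra R B) (κ : tB s B ⟶ Y), κ.left = k ∧ κ ≫ j = str s B := by
  let f : R →+* B := (Spec.preimage (k ≫ j.left)).hom
  let _ : Algebra R B := f.toAlgebra
  have h1 : Spec.map (CommRingCat.ofHom (algebraMap R B)) = k ≫ j.left := Spec.map_preimage _
  refine ⟨f.toAlgebra, Over.homMk k ?_, rfl, ?_⟩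
  · change k ≫ Y.hom = Spec.map (CommRingCat.ofHom (algebraMap R B)) ≫ s
    rw [h1, Category.assoc]
    congr 1
    exact (Over.w j).symm
  · ext1
    exact h1.symm

/-- affine open neighbourhoods -/
lemma exists_nhd {Y : Over S} (j : Y ⟶ Over.mk s) (y : Y.left) :
    ∃ (B : Type u) (_ : CommRing B) (_ : Algebra R B) (κ : tB s B ⟶ Y), IsOpenImmersion κ.left ∧
      y ∈ Set.range κ.left ∧ κ ≫ j = str s B := by
  obtain ⟨U, hU, hy, -⟩ := exists_isAffineOpen_mem_and_subset (X := Y.left) (U := ⊤) (x := y) trivial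
  obtain ⟨h1, κ, h2, h3⟩ := exists_tB s j (B := Γ(Y.left, U)) hU.fromSpec
  refine ⟨Γ(Y.left, U), inferInstance, h1, κ, ?_, ?_, h3⟩
  · rw [h2]; infer_instance
  · rw [h2, hU.range_fromSpec]
    exact hy

/-- morphisms out of a scheme over `Over.mk s` are determined by the affine schemes over it -/
lemma hom_ext_tB {Y G : Over S} (j : Y ⟶ Over.mk s) {f g : Y ⟶ G}
    (h : ∀ (C : Type u) [CommRing C] [Algebra R C] (κ : tB s C ⟶ Y), κ ≫ j = str s C → κ ≫ f = κ ≫ g) :
    f = g := by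
  ext1
  refine Scheme.hom_ext_of_forall _ _ fun y => ?_
  obtain ⟨B, _, _, κ, h1, h2, h3⟩ := exists_nhd s j y
  refine ⟨κ.left.opensRange, h2, ?_⟩
  have h4 : κ.left ≫ f.left = κ.left ≫ g.left := congrArg (fun z => z.left) (h B κ h3)
  rw [← cancel_epi κ.left.isoOpensRange.hom]
  simpa using h4

lemma exists_tMap {B C : Type u} [CommRing B] [Algebra R B] [CommRing C] [Algebra R C]
    (κ : tB s C ⟶ tB s B) (h : κ ≫ str s B = str s C) : ∃ φ : B →ₐ[R] C, κ = tMap s φ := by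
  let f : B →+* C := (Spec.preimage κ.left).hom
  have hf : Spec.map (CommRingCat.ofHom f) = κ.left := Spec.map_preimage _
  have h1 : κ.left ≫ Spec.map (CommRingCat.ofHom (algebraMap R B)) =
      Spec.map (CommRingCat.ofHom (algebraMap R C)) := congrArg (fun z => z.left) h
  rw [← hf, ← Spec.map_comp] at h1
  have h2 := Spec.map_injective h1
  refine ⟨⟨f, fun r => ?_⟩, ?_⟩
  · exact congrArg (fun z => z.hom r) h2
  · ext1
    exact hf.symm

end aff

section main

variable {G : Over S} [GrpObj G]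

/-- `g` acts on the torus of the splitting through `θ` -/
def ActsBy (D : Red.SplitRed G) {Y : Over S} (g : Y ⟶ G) (θ : D.M →+ D.M) : Prop :=
  ∀ (Z : Over S) (k : Z ⟶ Y) (t : Z ⟶ D.T),
    (k ≫ g) * (t ≫ D.i) * (k ≫ g)⁻¹ =
      t ≫ D.split.hom.hom.hom ≫ Red.DSmap S θ ≫ D.split.inv.hom.hom ≫ D.i

lemma ActsBy.comp {D : Red.SplitRed G} {Y Y' : Over S} {g : Y ⟶ G} {θ : D.M →+ D.M} (h : ActsBy D g θ)
    (f : Y' ⟶ Y) : ActsBy D (f ≫ g) θ := fun Z k t => by
  have := h Z (k ≫ f) t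
  simpa only [Category.assoc] using this

lemma split_hom_inv (D : Red.SplitRed G) : D.split.hom.hom.hom ≫ D.split.inv.hom.hom = 𝟙 _ :=
  congrArg (fun f => f.hom.hom) D.split.hom_inv_id

lemma split_inv_hom (D : Red.SplitRed G) : D.split.inv.hom.hom ≫ D.split.hom.hom.hom = 𝟙 _ :=
  congrArg (fun f => f.hom.hom) D.split.inv_hom_id

/-- coordinates of a point of the torus -/
lemma exists_coord (D : Red.SplitRed G) {R : Type u} [CommRing R] (s : Spec (CommRingCat.of R) ⟶ S)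
    {C : Type u} [CommRing C] [Algebra R C] (t : tB s C ⟶ D.T) :
    ∃ τ : TPt D.M C, t ≫ D.split.hom.hom.hom = dsEquiv (tB s C) D.M (chΓ s τ) ∧
      t ≫ D.i = dsEquiv (tB s C) D.M (chΓ s τ) ≫ jOf D := by
  obtain ⟨τ, hτ⟩ := exists_chΓ s (t ≫ D.split.hom.hom.hom)
  refine ⟨τ, hτ, ?_⟩
  rw [← hτ]
  change _ = (t ≫ D.split.hom.hom.hom) ≫ D.split.inv.hom.hom ≫ D.i
  rw [Category.assoc, ← Category.assoc D.split.hom.hom.hom, split_hom_inv, Category.id_comp]

/-- **A point of the normalizer acts Zariski-locally on the torus through a product of reflections.** -/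
theorem exists_word (D : Red.Pinning G) {R : Type u} [CommRing R] (s : Spec (CommRingCat.of R) ⟶ S)
    {Y : Over S} (j : Y ⟶ Over.mk s) (g : Y ⟶ G) (hg : RedSub.ConjEq D.i D.i g) (y : Y.left) :
    ∃ (Y' : Over S) (f : Y' ⟶ Y), IsOpenImmersion f.left ∧ y ∈ Set.range f.left ∧
      ∃ l : List D.idx, ActsBy D.toSplitRed (f ≫ g) (wact D.P l) := by
  obtain ⟨mdl⟩ := PinModelOf.nonempty_pinModel D R s
  obtain ⟨B, _, _, κ, hκ1, ⟨b, hb⟩, hκ2⟩ := exists_nhd s j y
  obtain ⟨g', hg'⟩ := (mdl.pts B).surjective (κ ≫ g)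
  have hnor : Nor mdl.E g' := by
    intro C _ _ φ t
    obtain ⟨t', ht'⟩ := (hg _ (tMap s φ ≫ κ)).1 (dsEquiv (tB s C) D.M (chΓ s t) ≫ D.split.inv.hom.hom)
    obtain ⟨τ, -, hτ⟩ := exists_coord D.toSplitRed s t'
    refine ⟨τ, ?_⟩
    apply (mdl.pts C).injective
    rw [map_mul, map_mul, map_inv, ← mdl.pts_nat, hg', mdl.pts_i, mdl.pts_i, ← hτ, ← ht']
    simp only [Category.assoc]
  obtain ⟨f, hf, l, hl, t₀, h⟩ := exists_away hnor b
  let ψ : B →ₐ[R] Localization.Away f := IsScalarTower.toAlgHom R B (Localization.Away f)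
  have hψ : (tMap s ψ).left = Spec.map (CommRingCat.ofHom (algebraMap B (Localization.Away f))) := rfl
  have h1 : tMap s ψ ≫ κ ≫ g = mdl.pts _ (nw mdl.E (Localization.Away f) l * mdl.E.i (Localization.Away f) t₀) := by
    rw [← hg', mdl.pts_nat, h]
  refine ⟨tB s (Localization.Away f), tMap s ψ ≫ κ, ?_, ?_, l, ?_⟩
  · rw [Over.comp_left, hψ]
    infer_instance
  · have h2 : b ∈ Set.range (PrimeSpectrum.comap (algebraMap B (Localization.Away f))) := by
      rw [PrimeSpectrum.localization_away_comap_range (Localization.Away f) f]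
      exact hf
    obtain ⟨b', hb'⟩ := h2
    refine ⟨b', ?_⟩
    rw [Over.comp_left, hψ, Scheme.Hom.comp_apply]
    refine Eq.trans ?_ hb
    congr 1
  · intro Z k t
    apply hom_ext_tB s (k ≫ str s _)
    intro C _ _ κ' hκ'
    obtain ⟨φ, hφ⟩ := exists_tMap s (κ' ≫ k) (by rw [Category.assoc, hκ'])
    obtain ⟨τ, hτ1, hτ2⟩ := exists_coord D.toSplitRed s (κ' ≫ t)
    rw [MonObj.comp_mul, MonObj.comp_mul, GrpObj.comp_inv]
    simp only [Category.assoc] at hτ1 hτ2 ⊢
    rw [← Category.assoc κ' k, hφ, h1, mdl.pts_nat, hτ2, ← mdl.pts_i, ← map_mul, ← map_inv, ← map_mul]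
    have h3 : κ' ≫ t ≫ D.split.hom.hom.hom ≫ Red.DSmap S (wact D.P l) ≫ D.split.inv.hom.hom ≫ D.i =
        mdl.pts C (mdl.E.i C (τ.comp (AddMonoidHom.toMultiplicative (wact D.P l)))) := by
      rw [mdl.pts_i, ← Category.assoc t, ← Category.assoc κ', hτ1, ← Category.assoc, dsEquiv_DSmap]
      rfl
    rw [h3]
    congr 1
    rw [Pt.map_mul, nw_nat, mdl.E.i_nat, _root_.mul_inv_rev]
    have h4 : nw mdl.E C l * mdl.E.i C (TPt.map φ t₀) * mdl.E.i C τ *
        ((mdl.E.i C (TPt.map φ t₀))⁻¹ * (nw mdl.E C l)⁻¹) = nw mdl.E C l *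
          (mdl.E.i C (TPt.map φ t₀) * mdl.E.i C τ * (mdl.E.i C (TPt.map φ t₀))⁻¹) * (nw mdl.E C l)⁻¹ := by
      group
    rw [h4, i_conj_i mdl.E (TPt.map φ t₀) τ, nw_conj_i hl τ]

end main

end Groth.Agent.RedSub.H668
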