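import Mathlib.RingTheory.Flat.FaithfullyFlat.Algebra
import Mathlib.RingTheory.TensorProduct.IncludeLeftSubRight
import Mathlib.RingTheory.Idempotents
import Mathlib.Algebra.MonoidAlgebra.Basic
import Mathlib.RingTheory.TensorProduct.Maps

/-!
# Actions of diagonalisable groups on affine schemes, in functor-of-points form

`C` an `A`-algebra, `Γ` a commutative group.  `PtAct A C Γ` is an action of `D(Γ)` on `Spec C`, given on
points: `act t x : C → B` for `t : Γ →* B` and `x : C →ₐ[A] B`.  We extract the grading of `C`: the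
projectors `S.p g : C →ₗ[A] C`.
-/

set_option autoImplicit false
universe u

open TensorProduct

namespace Groth.Agent.RedSub.H668

/-- An action of `D(Γ)` on `Spec C`, on points. -/
structure PtAct (A C : Type u) [CommRing A] [CommRing C] [Algebra A C] (Γ : Type) [CommGroup Γ] where
  /-- the action on `B`-points -/
  act : ∀ {B : Type u} [CommRing B] [Algebra A B], (Γ →* B) → (C →ₐ[A] B) → (C →ₐ[A] B)
  nat : ∀ {B B' : Type u} [CommRing B] [Algebra A B] [CommRing B'] [Algebra A B'] (φ : B →ₐ[A] B')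
    (t : Γ →* B) (x : C →ₐ[A] B), φ.comp (act t x) = act ((φ : B →* B').comp t) (φ.comp x)
  one_act : ∀ {B : Type u} [CommRing B] [Algebra A B] (x : C →ₐ[A] B), act 1 x = x
  mul_act : ∀ {B : Type u} [CommRing B] [Algebra A B] (t t' : Γ →* B) (x : C →ₐ[A] B),
    act (t * t') x = act t (act t' x)

variable {A C : Type u} [CommRing A] [CommRing C] [Algebra A C] {Γ : Type} [CommGroup Γ]

/-- the inclusion of constants `B → B[Γ]` -/
noncomputable def inc (A : Type u) [CommRing A] (B : Type u) [CommRing B] [Algebra A B] (Γ : Type)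
    [CommGroup Γ] : B →ₐ[A] MonoidAlgebra B Γ :=
  IsScalarTower.toAlgHom A B (MonoidAlgebra B Γ)

lemma inc_apply (B : Type u) [CommRing B] [Algebra A B] (b : B) :
    inc A B Γ b = MonoidAlgebra.single 1 b := rfl

/-- evaluation `C[Γ] → B` at a point `x` of `Spec C` and a character `t` -/
noncomputable def ev {B : Type u} [CommRing B] [Algebra A B] (x : C →ₐ[A] B) (t : Γ →* B) :
    MonoidAlgebra C Γ →ₐ[A] B :=
  MonoidAlgebra.liftNCAlgHom x t (fun _ _ => Commute.all _ _)

lemma ev_single {B : Type u} [CommRing B] [Algebra A B] (x : C →ₐ[A] B) (t : Γ →* B) (g : Γ) (c : C) :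
    ev x t (MonoidAlgebra.single g c) = x c * t g :=
  MonoidAlgebra.liftNC_single _ _ _ _

lemma ev_comp_inc {B : Type u} [CommRing B] [Algebra A B] (x : C →ₐ[A] B) (t : Γ →* B) :
    (ev x t).comp (inc A C Γ) = x := by
  ext c
  change ev x t (inc A C Γ c) = _
  rw [inc_apply, ev_single, map_one, mul_one]

lemma ev_comp_of {B : Type u} [CommRing B] [Algebra A B] (x : C →ₐ[A] B) (t : Γ →* B) :
    ((ev x t : MonoidAlgebra C Γ →ₐ[A] B) : MonoidAlgebra C Γ →* B).comp (MonoidAlgebra.of C Γ) = t := by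
  ext g
  change ev x t (MonoidAlgebra.single g 1) = _
  rw [ev_single, map_one, one_mul]

lemma ev_eq_sum {B : Type u} [CommRing B] [Algebra A B] (x : C →ₐ[A] B) (t : Γ →* B)
    (z : MonoidAlgebra C Γ) : ev x t z = z.coeff.sum fun g c => x c * t g := by
  conv_lhs => rw [← MonoidAlgebra.sum_coeff_single z]
  unfold Finsupp.sum
  rw [map_sum]
  exact Finset.sum_congr rfl fun g _ => ev_single x t g _

variable (S : PtAct A C Γ)

namespace PtAct

/-- the coaction -/
noncomputable def rho : C →ₐ[A] MonoidAlgebra C Γ := S.act (MonoidAlgebra.of C Γ) (inc A C Γ)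

lemma act_eq {B : Type u} [CommRing B] [Algebra A B] (t : Γ →* B) (x : C →ₐ[A] B) :
    S.act t x = (ev x t).comp S.rho := by
  rw [rho, S.nat, ev_comp_of, ev_comp_inc]

/-- the projector on the homogeneous component of degree `g` -/
noncomputable def p (g : Γ) : C →ₗ[A] C where
  toFun c := (S.rho c).coeff g
  map_add' c d := by rw [map_add]; rfl
  map_smul' a c := by rw [map_smul]; rfl

lemma p_apply (g : Γ) (c : C) : S.p g c = (S.rho c).coeff g := rfl

lemma act_apply {B : Type u} [CommRing B] [Algebra A B] (t : Γ →* B) (x : C →ₐ[A] B) (c : C) :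
    S.act t x c = (S.rho c).coeff.sum fun g d => x d * t g := by
  rw [act_eq]; exact ev_eq_sum x t _

lemma act_apply' {B : Type u} [CommRing B] [Algebra A B] (t : Γ →* B) (x : C →ₐ[A] B) (c : C) :
    S.act t x c = ∑ g ∈ (S.rho c).coeff.support, x (S.p g c) * t g := by
  rw [act_apply]; rfl

/-- `ρ(p_g c) = p_g c · g` -/
lemma rho_p (g : Γ) (c : C) : S.rho (S.p g c) = MonoidAlgebra.single g (S.p g c) := by
  classical
  -- the two universal characters over `C[Γ × Γ]`
  let B := MonoidAlgebra C (Γ × Γ)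
  let t₁ : Γ →* B := (MonoidAlgebra.of C (Γ × Γ)).comp (MonoidHom.inl Γ Γ)
  let t₂ : Γ →* B := (MonoidAlgebra.of C (Γ × Γ)).comp (MonoidHom.inr Γ Γ)
  let j : C →ₐ[A] B := IsScalarTower.toAlgHom A C B
  have hj : ∀ c, j c = MonoidAlgebra.single 1 c := fun c => rfl
  have ht₁ : ∀ g, t₁ g = MonoidAlgebra.single (g, 1) 1 := fun g => rfl
  have ht₂ : ∀ g, t₂ g = MonoidAlgebra.single (1, g) 1 := fun g => rfl
  have h := congrArg (fun f => f c) (S.mul_act t₁ t₂ j)
  rw [S.act_apply, S.act_apply] at h
  have h1 : ∀ d, S.act t₂ j d = (S.rho d).coeff.sum fun g' d' => MonoidAlgebra.single ((1 : Γ), g') d' := by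
    intro d
    rw [S.act_apply]
    refine Finset.sum_congr rfl fun g' _ => ?_
    dsimp only
    rw [hj, ht₂, MonoidAlgebra.single_mul_single, one_mul, mul_one]
  have h2 : (S.rho c).coeff.sum (fun g' d' => S.act t₂ j d' * t₁ g') =
      (S.rho c).coeff.sum fun g₁ d₁ => (S.rho d₁).coeff.sum fun g₂ d₂ =>
        MonoidAlgebra.single (g₁, g₂) d₂ := by
    refine Finset.sum_congr rfl fun g₁ _ => ?_
    dsimp only
    rw [h1]
    unfold Finsupp.sum
    rw [Finset.sum_mul]
    refine Finset.sum_congr rfl fun g₂ _ => ?_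
    rw [ht₁, MonoidAlgebra.single_mul_single, Prod.mk_mul_mk, one_mul, mul_one, mul_one]
  have h3 : (S.rho c).coeff.sum (fun g' d' => j d' * (t₁ * t₂) g') =
      (S.rho c).coeff.sum fun g₁ d₁ => MonoidAlgebra.single (g₁, g₁) d₁ := by
    refine Finset.sum_congr rfl fun g₁ _ => ?_
    dsimp only
    rw [hj, MonoidHom.mul_apply, ht₁, ht₂, MonoidAlgebra.single_mul_single, MonoidAlgebra.single_mul_single,
      one_mul, Prod.mk_mul_mk, one_mul, mul_one, mul_one, mul_one]
  rw [h3, h2] at h
  have h4 : ∀ g', ((S.rho c).coeff.sum fun g₁ d₁ => (MonoidAlgebra.single (g₁, g₁) d₁ : B)).coeff (g, g') =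
      ((S.rho c).coeff.sum fun g₁ d₁ => (S.rho d₁).coeff.sum fun g₂ d₂ =>
        (MonoidAlgebra.single (g₁, g₂) d₂ : B)).coeff (g, g') := fun g' => by rw [h]
  have h5 : ∀ g', ((S.rho c).coeff.sum fun g₁ d₁ => (MonoidAlgebra.single (g₁, g₁) d₁ : B)).coeff (g, g') =
      if g = g' then S.p g c else 0 := by
    intro g'
    unfold Finsupp.sum
    rw [MonoidAlgebra.coeff_sum, Finsupp.finsetSum_apply]
    split_ifs with hg
    · subst hg
      by_cases hs : g ∈ (S.rho c).coeff.support
      · rw [Finset.sum_eq_single_of_mem g hs]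
        · exact Finsupp.single_eq_same
        · intro b _ hb
          exact Finsupp.single_eq_of_ne (fun e => hb (Prod.mk.inj e).1.symm)
      · rw [Finset.sum_eq_zero]
        · rw [Finsupp.notMem_support_iff] at hs
          exact hs.symm
        · intro b hb'
          refine Finsupp.single_eq_of_ne (fun e => hs ?_)
          rw [(Prod.mk.inj e).1]
          exact hb'
    · refine Finset.sum_eq_zero fun b _ => Finsupp.single_eq_of_ne (fun e => hg ?_)
      rw [(Prod.mk.inj e).1, (Prod.mk.inj e).2]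
  have h6 : ∀ g', ((S.rho c).coeff.sum fun g₁ d₁ => (S.rho d₁).coeff.sum fun g₂ d₂ =>
      (MonoidAlgebra.single (g₁, g₂) d₂ : B)).coeff (g, g') = (S.rho (S.p g c)).coeff g' := by
    intro g'
    unfold Finsupp.sum
    rw [MonoidAlgebra.coeff_sum, Finsupp.finsetSum_apply]
    have h7 : ∀ g₁, (∑ g₂ ∈ (S.rho ((S.rho c).coeff g₁)).coeff.support,
        (MonoidAlgebra.single (g₁, g₂) ((S.rho ((S.rho c).coeff g₁)).coeff g₂) : B)).coeff (g, g') =
        if g = g₁ then (S.rho ((S.rho c).coeff g₁)).coeff g' else 0 := by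
      intro g₁
      rw [MonoidAlgebra.coeff_sum, Finsupp.finsetSum_apply]
      split_ifs with hg
      · subst hg
        by_cases hs : g' ∈ (S.rho ((S.rho c).coeff g)).coeff.support
        · rw [Finset.sum_eq_single_of_mem g' hs]
          · exact Finsupp.single_eq_same
          · intro b _ hb
            exact Finsupp.single_eq_of_ne (fun e => hb (Prod.mk.inj e).2.symm)
        · rw [Finset.sum_eq_zero]
          · rw [Finsupp.notMem_support_iff] at hs
            exact hs.symm
          · intro b hb'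
            refine Finsupp.single_eq_of_ne (fun e => hs ?_)
            rw [(Prod.mk.inj e).2]
            exact hb'
      · exact Finset.sum_eq_zero fun b _ => Finsupp.single_eq_of_ne (fun e => hg (Prod.mk.inj e).1)
    rw [Finset.sum_congr rfl fun g₁ _ => h7 g₁]
    rw [Finset.sum_ite_eq]
    split_ifs with hs
    · rfl
    · rw [Finsupp.notMem_support_iff] at hs
      rw [S.p_apply, hs, map_zero]
      rfl
  ext g'
  rw [← h6, ← h4, h5, MonoidAlgebra.coeff_single, Finsupp.single_apply]

lemma p_p_same (g : Γ) (c : C) : S.p g (S.p g c) = S.p g c := by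
  rw [S.p_apply g (S.p g c), rho_p]
  exact Finsupp.single_eq_same

lemma p_p_ne {g h : Γ} (hgh : g ≠ h) (c : C) : S.p h (S.p g c) = 0 := by
  rw [S.p_apply h (S.p g c), rho_p]
  exact Finsupp.single_eq_of_ne hgh.symm

/-- the sum of the homogeneous components -/
lemma sum_p (c : C) : ∑ g ∈ (S.rho c).coeff.support, S.p g c = c := by
  have h := congrArg (fun f => f c) (S.one_act (AlgHom.id A C))
  rw [S.act_apply'] at h
  simpa using h

/-- homogeneous elements -/
def Hom (g : Γ) (c : C) : Prop := S.rho c = MonoidAlgebra.single g c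

variable {S}

lemma Hom.p_same {g : Γ} {c : C} (h : S.Hom g c) : S.p g c = c := by
  rw [S.p_apply, h]
  exact Finsupp.single_eq_same

lemma hom_p (S : PtAct A C Γ) (g : Γ) (c : C) : S.Hom g (S.p g c) := S.rho_p g c

lemma hom_iff {g : Γ} {c : C} : S.Hom g c ↔ S.p g c = c :=
  ⟨fun h => h.p_same, fun h => h ▸ S.hom_p g c⟩

lemma Hom.mul {g h : Γ} {c d : C} (hc : S.Hom g c) (hd : S.Hom h d) : S.Hom (g * h) (c * d) := by
  rw [Hom, map_mul, hc, hd, MonoidAlgebra.single_mul_single]

lemma Hom.add {g : Γ} {c d : C} (hc : S.Hom g c) (hd : S.Hom g d) : S.Hom g (c + d) := by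
  rw [Hom, map_add, hc, hd, ← MonoidAlgebra.single_add]

lemma Hom.zero {g : Γ} : S.Hom g 0 := by
  rw [Hom, map_zero]
  exact (MonoidAlgebra.single_zero g).symm

lemma Hom.one : S.Hom 1 1 := by
  rw [Hom, map_one]
  rfl

lemma Hom.algMap (a : A) : S.Hom 1 (algebraMap A C a) := by
  rw [Hom, AlgHom.commutes]
  rfl

/-- action on homogeneous elements -/
lemma Hom.act {g : Γ} {c : C} (h : S.Hom g c) {B : Type u} [CommRing B] [Algebra A B] (t : Γ →* B)
    (x : C →ₐ[A] B) : S.act t x c = x c * t g := by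
  rw [S.act_eq]
  change ev x t (S.rho c) = _
  rw [h, ev_single]

variable (S)

/-- The subalgebra of invariants. -/
noncomputable def C0 : Subalgebra A C where
  carrier := {c | S.Hom 1 c}
  mul_mem' {a b} ha hb := by
    have : S.Hom (1 * 1) (a * b) := Hom.mul ha hb
    rwa [one_mul] at this
  add_mem' ha hb := Hom.add ha hb
  algebraMap_mem' a := Hom.algMap a

lemma mem_C0 {c : C} : c ∈ S.C0 ↔ S.Hom 1 c := Iff.rfl

end PtAct

end Groth.Agent.RedSub.H668
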