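import Groth.Agent.RedSub.H668.PtAct
import Mathlib.RingTheory.Spectrum.Prime.Chevalley
import Mathlib.RingTheory.Spectrum.Prime.Topology
import Mathlib.RingTheory.Flat.FaithfullyFlat.Algebra
import Mathlib.RingTheory.RingHom.Flat
import Mathlib.RingTheory.RingHom.FinitePresentation
import Mathlib.RingTheory.Ideal.GoingDown

/-!
# Points of an affine scheme which is locally a disjoint union of orbits of `D(Γ)`

`S : PtAct A C Γ`, `e w : C → A'` (`w ∈ W` finite) points over an `A`-algebra `A'`.  If the orbits of the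
`e w` are disjoint free orbits (`Inj`) and cover (`Loc`, locally for the flat topology), every point `x`
with values in an `A'`-algebra `B` is given by complete orthogonal idempotents `ε w` of `B` and a
character `t : Γ →* B`.
-/

set_option autoImplicit false
universe u

open TensorProduct

namespace Groth.Agent.RedSub.H668

variable {A C : Type u} [CommRing A] [CommRing C] [Algebra A C] {Γ : Type} [CommGroup Γ]

namespace PtAct

variable (S : PtAct A C Γ) {A' : Type u} [CommRing A'] [Algebra A A'] {W : Type} [Fintype W]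
  (e : W → (C →ₐ[A] A'))

/-- the point `x` is given by the idempotents `ε` and the character `t` -/
def Rep {B : Type u} [CommRing B] [Algebra A B] (j : A' →ₐ[A] B) (x : C →ₐ[A] B) (ε : W → B)
    (t : Γ →* B) : Prop :=
  CompleteOrthogonalIdempotents ε ∧ ∀ c, x c = ∑ w, ε w * S.act t (j.comp (e w)) c

omit [Fintype W] in
/-- The orbits of the `e w` are free and disjoint. -/
def Inj : Prop :=
  ∀ (B : Type u) [CommRing B] [Algebra A B] [Nontrivial B] (j : A' →ₐ[A] B) (w w' : W)
    (t t' : Γ →* B), S.act t (j.comp (e w)) = S.act t' (j.comp (e w')) → w = w' ∧ t = t'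

omit [Fintype W] in
/-- Every point is locally in the orbit of some `e w`. -/
def Loc : Prop :=
  ∀ (B : Type u) [CommRing B] [Algebra A B] (j : A' →ₐ[A] B) (x : C →ₐ[A] B) (q : PrimeSpectrum B),
    ∃ (B' : Type u) (_ : CommRing B') (_ : Algebra A B') (φ : B →ₐ[A] B'), φ.toRingHom.Flat ∧
      φ.toRingHom.FinitePresentation ∧ q ∈ Set.range (PrimeSpectrum.comap φ.toRingHom) ∧
      ∃ (w : W) (t : Γ →* B'), φ.comp x = S.act t ((φ.comp j).comp (e w))

variable {S e}

lemma Rep.map {B : Type u} [CommRing B] [Algebra A B] {j : A' →ₐ[A] B} {x : C →ₐ[A] B} {ε : W → B}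
    {t : Γ →* B} (h : Rep S e j x ε t) {B' : Type u} [CommRing B'] [Algebra A B'] (φ : B →ₐ[A] B') :
    Rep S e (φ.comp j) (φ.comp x) (φ ∘ ε) ((φ : B →* B').comp t) := by
  refine ⟨h.1.map φ.toRingHom, fun c => ?_⟩
  rw [AlgHom.comp_apply, h.2, map_sum]
  refine Finset.sum_congr rfl fun w _ => ?_
  rw [map_mul, AlgHom.comp_assoc, ← S.nat]
  rfl

/-- acting by a character -/
lemma Rep.act {B : Type u} [CommRing B] [Algebra A B] {j : A' →ₐ[A] B} {x : C →ₐ[A] B} {ε : W → B}
    {t : Γ →* B} (h : Rep S e j x ε t) (s : Γ →* B) : Rep S e j (S.act s x) ε (s * t) := by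
  classical
  refine ⟨h.1, fun c => ?_⟩
  rw [S.act_apply']
  have h1 : ∀ w, S.act (s * t) (j.comp (e w)) c =
      ∑ g ∈ (S.rho c).coeff.support, S.act t (j.comp (e w)) (S.p g c) * s g := by
    intro w
    rw [S.mul_act, S.act_apply']
  simp only [h1, h.2, Finset.mul_sum, Finset.sum_mul]
  rw [Finset.sum_comm]
  refine Finset.sum_congr rfl fun w _ => Finset.sum_congr rfl fun g _ => ?_
  ring

/-- the representation is unique -/
theorem Rep.unique (hI : Inj S e) {B : Type u} [CommRing B] [Algebra A B] {j : A' →ₐ[A] B}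
    {x : C →ₐ[A] B} {ε ε' : W → B} {t t' : Γ →* B} (h : Rep S e j x ε t) (h' : Rep S e j x ε' t') :
    ε = ε' ∧ t = t' := by
  classical
  -- the quotient where `ε w * ε' w' = 1`
  have key : ∀ w w' : W, (w = w' ∨ ε w * ε' w' = 0) ∧ ∀ g, ε w * ε' w' * (t g - t' g) = 0 := by
    intro w w'
    have hidem : (ε w * ε' w') * (ε w * ε' w') = ε w * ε' w' := by
      have h1 := (h.1.idem w).eq
      have h2 := (h'.1.idem w').eq
      calc (ε w * ε' w') * (ε w * ε' w') = (ε w * ε w) * (ε' w' * ε' w') := by ring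
        _ = _ := by rw [h1, h2]
    let I : Ideal B := Ideal.span {1 - ε w * ε' w'}
    let q : B →ₐ[A] B ⧸ I := Ideal.Quotient.mkₐ A I
    have hq : ∀ b, q b = 0 ↔ (ε w * ε' w') * b = 0 := by
      intro b
      constructor
      · intro hb
        have hb' : b ∈ I := Ideal.Quotient.eq_zero_iff_mem.1 hb
        obtain ⟨c, hc⟩ := Ideal.mem_span_singleton'.1 hb'
        rw [← hc]
        calc ε w * ε' w' * (c * (1 - ε w * ε' w')) = c * (ε w * ε' w' - (ε w * ε' w') * (ε w * ε' w')) := by
              ring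
          _ = 0 := by rw [hidem, sub_self, mul_zero]
      · intro hb
        refine Ideal.Quotient.eq_zero_iff_mem.2 (Ideal.mem_span_singleton'.2 ⟨b, ?_⟩)
        rw [mul_sub, mul_one, mul_comm b, hb, sub_zero]
    rcases subsingleton_or_nontrivial (B ⧸ I) with hs | hn
    · have h0 : ∀ b, (ε w * ε' w') * b = 0 := fun b => (hq b).1 (Subsingleton.elim _ _)
      exact ⟨Or.inr (by simpa using h0 1), fun g => h0 _⟩
    · have hf : q (ε w * ε' w') = 1 := by
        rw [← sub_eq_zero, ← map_one q, ← map_sub, hq, mul_sub, mul_one, hidem, sub_self]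
      have hw : q (ε w) = 1 := by
        have h1 : ε w * (ε w * ε' w') = ε w * ε' w' := by rw [← mul_assoc, (h.1.idem w).eq]
        have h2 := congrArg q h1
        rwa [map_mul, hf, mul_one] at h2
      have hw' : q (ε' w') = 1 := by
        have h1 : ε' w' * (ε w * ε' w') = ε w * ε' w' := by
          rw [mul_comm (ε w), ← mul_assoc, (h'.1.idem w').eq]
        have h2 := congrArg q h1
        rwa [map_mul, hf, mul_one] at h2
      have hv : ∀ v, v ≠ w → q (ε v) = 0 := by
        intro v hv
        have h1 := congrArg q (h.1.ortho hv)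
        rwa [map_mul, hw, mul_one, map_zero] at h1
      have hv' : ∀ v, v ≠ w' → q (ε' v) = 0 := by
        intro v hv
        have h1 := congrArg q (h'.1.ortho hv)
        rwa [map_mul, hw', mul_one, map_zero] at h1
      have e1 : q.comp x = S.act ((q : B →* B ⧸ I).comp t) ((q.comp j).comp (e w)) := by
        ext c
        rw [(h.map q).2, Finset.sum_eq_single w]
        · rw [Function.comp_apply, hw, one_mul]
        · intro v _ hvw
          rw [Function.comp_apply, hv v hvw, zero_mul]
        · intro hh; exact absurd (Finset.mem_univ _) hh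
      have e2 : q.comp x = S.act ((q : B →* B ⧸ I).comp t') ((q.comp j).comp (e w')) := by
        ext c
        rw [(h'.map q).2, Finset.sum_eq_single w']
        · rw [Function.comp_apply, hw', one_mul]
        · intro v _ hvw
          rw [Function.comp_apply, hv' v hvw, zero_mul]
        · intro hh; exact absurd (Finset.mem_univ _) hh
      obtain ⟨h1, h2⟩ := hI (B ⧸ I) (q.comp j) w w' _ _ (e1.symm.trans e2)
      refine ⟨Or.inl h1, fun g => (hq _).1 ?_⟩
      have h3 := DFunLike.congr_fun h2 g
      rw [map_sub, sub_eq_zero]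
      exact h3
  have hεw : ∀ w, ε w = ε w * ε' w := by
    intro w
    conv_lhs => rw [← mul_one (ε w), ← h'.1.complete, Finset.mul_sum]
    rw [Finset.sum_eq_single w]
    · intro v _ hv
      exact ((key w v).1.resolve_left hv.symm)
    · intro hh; exact absurd (Finset.mem_univ _) hh
  have hεw' : ∀ w, ε' w = ε w * ε' w := by
    intro w
    conv_lhs => rw [← one_mul (ε' w), ← h.1.complete, Finset.sum_mul]
    rw [Finset.sum_eq_single w]
    · intro v _ hv
      exact ((key v w).1.resolve_left hv)
    · intro hh; exact absurd (Finset.mem_univ _) hh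
  refine ⟨funext fun w => (hεw w).trans (hεw' w).symm, MonoidHom.ext fun g => ?_⟩
  rw [← sub_eq_zero, ← one_mul (t g - t' g), ← h.1.complete, Finset.sum_mul]
  refine Finset.sum_eq_zero fun w _ => ?_
  rw [hεw w]
  exact (key w w).2 g

/-- the representation descends along faithfully flat maps -/
theorem Rep.descend (hI : Inj S e) {B : Type u} [CommRing B] [Algebra A B] {j : A' →ₐ[A] B}
    {x : C →ₐ[A] B} (B' : Type u) [CommRing B'] [Algebra A B'] [Algebra B B'] [IsScalarTower A B B']
    [Module.FaithfullyFlat B B'] {ε' : W → B'} {t' : Γ →* B'}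
    (h : Rep S e ((IsScalarTower.toAlgHom A B B').comp j) ((IsScalarTower.toAlgHom A B B').comp x) ε' t') :
    ∃ (ε : W → B) (t : Γ →* B), Rep S e j x ε t := by
  classical
  let φ : B →ₐ[A] B' := IsScalarTower.toAlgHom A B B'
  have hφ : Function.Injective φ := FaithfulSMul.algebraMap_injective B B'
  let i₁ : B' →ₐ[A] B' ⊗[B] B' := (Algebra.TensorProduct.includeLeft : B' →ₐ[B] B' ⊗[B] B').restrictScalars A
  let i₂ : B' →ₐ[A] B' ⊗[B] B' := (Algebra.TensorProduct.includeRight : B' →ₐ[B] B' ⊗[B] B').restrictScalars A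
  have hi : i₁.comp φ = i₂.comp φ := by
    ext b
    change (algebraMap B B' b) ⊗ₜ[B] (1 : B') = (1 : B') ⊗ₜ[B] (algebraMap B B' b)
    rw [Algebra.algebraMap_eq_smul_one, TensorProduct.smul_tmul]
  have h1 := h.map i₁
  have h2 := h.map i₂
  rw [← AlgHom.comp_assoc, ← AlgHom.comp_assoc] at h1 h2
  change Rep S e ((i₁.comp φ).comp j) ((i₁.comp φ).comp x) _ _ at h1
  change Rep S e ((i₂.comp φ).comp j) ((i₂.comp φ).comp x) _ _ at h2
  rw [hi] at h1
  obtain ⟨hε, ht⟩ := Rep.unique hI h1 h2
  have hd : ∀ b' : B', i₁ b' = i₂ b' → ∃ b : B, φ b = b' := by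
    intro b' hb
    have := (Algebra.IsEffective.of_faithfullyFlat B B').eqLocus_includeLeft_includeRight
    have h3 : b' ∈ (Set.range (algebraMap B B')) := by
      rw [← this]
      exact hb
    exact h3
  choose ε hε' using fun w => hd (ε' w) (congrFun hε w)
  choose t₀ ht₀ using fun g => hd (t' g) (DFunLike.congr_fun ht g)
  let t : Γ →* B :=
    { toFun := t₀
      map_one' := hφ (by rw [ht₀, map_one, map_one])
      map_mul' := fun g g' => hφ (by rw [ht₀, map_mul, map_mul, ht₀, ht₀]) }
  have htt : (φ : B →* B').comp t = t' := MonoidHom.ext fun g => ht₀ g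
  refine ⟨ε, t, ?_, fun c => hφ ?_⟩
  · refine ⟨⟨fun w => hφ ?_, fun w w' hw => hφ ?_⟩, hφ ?_⟩
    · rw [map_mul, hε', (h.1.idem w).eq]
    · rw [map_mul, hε', hε', map_zero]
      exact h.1.ortho hw
    · rw [map_sum, map_one]
      simp only [hε']
      exact h.1.complete
  · have h3 := h.2 c
    rw [AlgHom.comp_apply] at h3
    rw [map_sum]
    refine h3.trans (Finset.sum_congr rfl fun w _ => ?_)
    rw [map_mul, hε', ← AlgHom.comp_apply φ, S.nat, htt, ← AlgHom.comp_assoc]

/-- product of finitely many flat algebras -/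
lemma faithfullyFlat_pi {κ : Type u} [Finite κ] (B : Type u) [CommRing B] (L : κ → Type u)
    [∀ k, CommRing (L k)] [∀ k, Algebra B (L k)] [∀ k, Module.Flat B (L k)]
    (h : ∀ q : PrimeSpectrum B, ∃ k, q ∈ Set.range (PrimeSpectrum.comap (algebraMap B (L k)))) :
    Module.FaithfullyFlat B (∀ k, L k) := by
  have : Module.Flat B (∀ k, L k) := by
    classical
    cases nonempty_fintype κ
    exact Module.Flat.of_linearEquiv (DFinsupp.linearEquivFunOnFintype (R := B) (M := L)).symm
  refine Module.FaithfullyFlat.of_comap_surjective fun q => ?_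
  obtain ⟨k, y, hy⟩ := h q
  refine ⟨PrimeSpectrum.comap (Pi.evalRingHom L k) y, ?_⟩
  rw [← hy, ← PrimeSpectrum.comap_comp_apply]
  rfl

/-- Every point is given by idempotents and a character. -/
theorem exists_rep (hI : Inj S e) (hL : Loc S e) {B : Type u} [CommRing B] [Algebra A B]
    (j : A' →ₐ[A] B) (x : C →ₐ[A] B) : ∃ (ε : W → B) (t : Γ →* B), Rep S e j x ε t := by
  classical
  choose B' i₁ i₂ φ hfl hfp hq w t ht using hL B j x
  -- finitely many of them cover
  have hopen : ∀ q, IsOpen (Set.range (PrimeSpectrum.comap (φ q).toRingHom)) := by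
    intro q
    let := i₁ q
    let : Algebra B (B' q) := (φ q).toRingHom.toAlgebra
    have : Module.Flat B (B' q) := hfl q
    have : Algebra.FinitePresentation B (B' q) := hfp q
    exact (PrimeSpectrum.isOpenMap_comap_of_hasGoingDown_of_finitePresentation
      (R := B) (S := B' q)).isOpen_range
  obtain ⟨F, hF⟩ := isCompact_univ.elim_finite_subcover
    (fun q => Set.range (PrimeSpectrum.comap (φ q).toRingHom)) hopen (fun q _ => Set.mem_iUnion.2 ⟨q, hq q⟩)
  let L : F → Type u := fun k => B' k.1
  let : ∀ k, CommRing (L k) := fun k => i₁ k.1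
  let : ∀ k, Algebra A (L k) := fun k => i₂ k.1
  let : ∀ k, Algebra B (L k) := fun k => (φ k.1).toRingHom.toAlgebra
  have : ∀ k, Module.Flat B (L k) := fun k => hfl k.1
  have : ∀ k, IsScalarTower A B (L k) := fun k => IsScalarTower.of_algebraMap_eq fun a =>
    ((φ k.1).commutes a).symm
  have : Module.FaithfullyFlat B (∀ k, L k) := by
    refine faithfullyFlat_pi B L fun q => ?_
    obtain ⟨q', hq', hq''⟩ := Set.mem_iUnion₂.1 (hF (Set.mem_univ q))
    exact ⟨⟨q', hq'⟩, hq''⟩
  let ψ : B →ₐ[A] (∀ k, L k) := IsScalarTower.toAlgHom A B (∀ k, L k)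
  let t' : Γ →* (∀ k, L k) := MonoidHom.pi fun k => t k.1
  let ε' : W → (∀ k, L k) := fun v k => if w k.1 = v then 1 else 0
  refine Rep.descend hI (∀ k, L k) (ε' := ε') (t' := t') ⟨⟨⟨?_, ?_⟩, ?_⟩, fun c => ?_⟩
  · intro v
    change ε' v * ε' v = ε' v
    funext k
    change ε' v k * ε' v k = ε' v k
    by_cases hk : w k.1 = v <;> simp [ε', hk]
  · intro v v' hv
    funext k
    change ε' v k * ε' v' k = 0
    by_cases hk : w k.1 = v
    · have : w k.1 ≠ v' := fun h => hv (hk.symm.trans h)
      simp [ε', this]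
    · simp [ε', hk]
  · funext k
    rw [Finset.sum_apply]
    change ∑ v, (if w k.1 = v then (1 : L k) else 0) = 1
    rw [Finset.sum_ite_eq]
    simp
  · funext k
    rw [Finset.sum_apply]
    have h1 : ∀ v, (ε' v * S.act t' (ψ.comp j |>.comp (e v)) c) k =
        if w k.1 = v then S.act (t k.1) (((φ k.1).comp j).comp (e v)) c else 0 := by
      intro v
      have h2 : (S.act t' ((ψ.comp j).comp (e v)) c) k = S.act (t k.1) (((φ k.1).comp j).comp (e v)) c := by
        have h3 := DFunLike.congr_fun (S.nat (Pi.evalAlgHom A L k) t' ((ψ.comp j).comp (e v))) c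
        exact h3
      change ε' v k * (S.act t' ((ψ.comp j).comp (e v)) c) k = _
      rw [h2]
      by_cases hk : w k.1 = v <;> simp [ε', hk]
    rw [Finset.sum_congr rfl fun v _ => h1 v, Finset.sum_ite_eq]
    rw [if_pos (Finset.mem_univ _), ← ht]
    rfl

end PtAct

end Groth.Agent.RedSub.H668
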