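import Groth.Agent.RedSub.H668.TorsSec
import Mathlib.RingTheory.QuasiFinite.Basic
import Mathlib.RingTheory.Ideal.Quotient.Operations
import Mathlib.LinearAlgebra.FreeModule.Basic

/-!
# Sections of a scheme with an action of `D(M)` over a semilocal ring, end

`LocSplit.exists_section`: `A` semilocal, `M` finitely generated free, `S : PtAct A C (Multiplicative M)`
with `LocSplit S`: there is a finite étale `A`-algebra `A₁` with `Spec A₁ → Spec A` surjective and an
`A`-algebra map `C → A₁`.
-/

set_option autoImplicit false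
universe u

open TensorProduct

namespace Groth.Agent.RedSub.H668

/-- a finite algebra over a semilocal ring is semilocal -/
theorem finite_maximalSpectrum {A B : Type u} [CommRing A] [CommRing B] [Algebra A B]
    [Module.Finite A B] (hA : {m : Ideal A | m.IsMaximal}.Finite) : Finite (MaximalSpectrum B) := by
  have h1 : {p : PrimeSpectrum A | p.asIdeal.IsMaximal}.Finite := by
    refine Set.Finite.of_finite_image (f := PrimeSpectrum.asIdeal) (hA.subset ?_) ?_
    · rintro _ ⟨p, hp, rfl⟩
      exact hp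
    · intro p _ q _ h
      exact PrimeSpectrum.ext h
  have h2 : ((PrimeSpectrum.comap (algebraMap A B)) ⁻¹' {p : PrimeSpectrum A | p.asIdeal.IsMaximal}).Finite :=
    Algebra.QuasiFinite.finite_comap_preimage h1
  have h3 : Function.Injective (fun m : MaximalSpectrum B => m.toPrimeSpectrum) := fun m m' h => by
    ext1
    exact congrArg PrimeSpectrum.asIdeal h
  have h4 : (Set.range (fun m : MaximalSpectrum B => m.toPrimeSpectrum)).Finite := by
    refine h2.subset ?_
    rintro _ ⟨m, rfl⟩
    have : m.asIdeal.IsMaximal := m.isMaximal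
    exact Ideal.isMaximal_comap_of_isIntegral_of_isMaximal m.asIdeal
  exact Set.finite_univ_iff.1 (Set.Finite.of_finite_image (by rw [Set.image_univ]; exact h4) h3.injOn)

variable {A C : Type u} [CommRing A] [CommRing C] [Algebra A C]

namespace PtAct

section
variable {Γ : Type} [CommGroup Γ] {S : PtAct A C Γ}

/-- Over a semilocal ring of invariants there are invertible homogeneous elements of every degree. -/
theorem exists_unit [Finite (MaximalSpectrum S.C0)] (g : Γ) (h : (1 : C) ∈ S.NN g) :
    ∃ u : Cˣ, S.Hom g (u : C) := by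
  classical
  have := Fintype.ofFinite (MaximalSpectrum S.C0)
  -- the products as elements of `C₀`
  have hmem : ∀ a b, S.Hom g a → S.Hom g⁻¹ b → a * b ∈ S.C0 := by
    intro a b ha hb
    have := ha.mul hb
    rwa [mul_inv_cancel] at this
  have key : ∀ m : MaximalSpectrum S.C0, ∃ (a b : C) (ha : S.Hom g a) (hb : S.Hom g⁻¹ b),
      (⟨a * b, hmem a b ha hb⟩ : S.C0) ∉ m.asIdeal := by
    intro m
    by_contra hcon
    push Not at hcon
    let N : Submodule A C := (Submodule.restrictScalars A m.asIdeal).map S.C0.val.toLinearMap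
    have h1 : S.NN g ≤ N := by
      refine Submodule.span_le.2 ?_
      rintro _ ⟨a, b, ha, hb, rfl⟩
      exact ⟨⟨a * b, hmem a b ha hb⟩, hcon a b ha hb, rfl⟩
    obtain ⟨c, hc, hc1⟩ := h1 h
    have : c = 1 := Subtype.ext hc1
    rw [this] at hc
    exact m.isMaximal.ne_top ((Ideal.eq_top_iff_one _).2 hc)
  choose a b ha hb hab using key
  -- elements congruent to `δ`
  have hδ : ∀ i : MaximalSpectrum S.C0, ∃ x : S.C0, ∀ j : MaximalSpectrum S.C0,
      x - (if i = j then 1 else 0) ∈ j.asIdeal := by
    intro i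
    exact Ideal.exists_forall_sub_mem_ideal
      (I := fun j : MaximalSpectrum S.C0 => j.asIdeal) (fun j j' hj =>
        Ideal.isCoprime_of_isMaximal (MaximalSpectrum.ext_iff.ne.mp hj))
      (fun j => if i = j then 1 else 0)
  choose x hx using hδ
  let α : C := ∑ i, (x i : C) * a i
  let β : C := ∑ i, (x i : C) * b i
  have hhom : ∀ (s : Finset (MaximalSpectrum S.C0)) (k : Γ) (f : MaximalSpectrum S.C0 → C),
      (∀ i, S.Hom k (f i)) → S.Hom k (∑ i ∈ s, (x i : C) * f i) := by
    intro s k f hf
    induction s using Finset.induction_on with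
    | empty => rw [Finset.sum_empty]; exact Hom.zero
    | insert i s hi ih =>
      rw [Finset.sum_insert hi]
      refine Hom.add ?_ ih
      have h1 : S.Hom (1 * k) ((x i : C) * f i) := Hom.mul (x i).2 (hf i)
      rwa [one_mul] at h1
  have hα : S.Hom g α := hhom _ _ _ ha
  have hβ : S.Hom g⁻¹ β := hhom _ _ _ hb
  let γ : S.C0 := ⟨α * β, hmem α β hα hβ⟩
  have hγ : γ = ∑ i, ∑ l, x i * x l * ⟨a i * b l, hmem _ _ (ha i) (hb l)⟩ := by
    apply Subtype.ext
    change α * β = S.C0.val (∑ i, ∑ l, x i * x l * ⟨a i * b l, hmem _ _ (ha i) (hb l)⟩)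
    rw [map_sum]
    simp only [map_sum, map_mul]
    rw [Finset.sum_mul_sum]
    refine Finset.sum_congr rfl fun i _ => Finset.sum_congr rfl fun l _ => ?_
    change (x i : C) * a i * ((x l : C) * b l) = (x i : C) * x l * (a i * b l)
    ring
  have hunit : IsUnit γ := by
    by_contra hnu
    obtain ⟨m, hm, hγm⟩ := exists_max_ideal_of_mem_nonunits hnu
    let j : MaximalSpectrum S.C0 := ⟨m, hm⟩
    have h1 : Ideal.Quotient.mk j.asIdeal γ = 0 := Ideal.Quotient.eq_zero_iff_mem.2 hγm
    have h2 : ∀ i, Ideal.Quotient.mk j.asIdeal (x i) = if i = j then 1 else 0 := by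
      intro i
      have h3 := (Ideal.Quotient.mk_eq_mk_iff_sub_mem _ _).2 (hx i j)
      rw [h3]
      split_ifs <;> simp
    rw [hγ, map_sum] at h1
    simp only [map_sum, map_mul, h2, ite_mul, mul_ite, one_mul, mul_one, zero_mul, mul_zero,
      Finset.sum_ite_eq', Finset.mem_univ, if_true] at h1
    exact hab j (Ideal.Quotient.eq_zero_iff_mem.1 h1)
  obtain ⟨δ, hδ⟩ := hunit.exists_right_inv
  have h1 : α * (β * (δ : C)) = 1 := by
    rw [← mul_assoc]
    exact congrArg Subtype.val hδ
  exact ⟨⟨α, β * (δ : C), h1, by rw [mul_comm]; exact h1⟩, hα⟩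

lemma Hom.inv {g : Γ} {u : Cˣ} (h : S.Hom g (u : C)) : S.Hom g⁻¹ ((u⁻¹ : Cˣ) : C) := by
  have h1 : S.rho ((u⁻¹ : Cˣ) : C) * MonoidAlgebra.single g (u : C) = 1 := by
    rw [← h, ← map_mul, Units.inv_mul, map_one]
  have h2 : MonoidAlgebra.single g (u : C) * MonoidAlgebra.single g⁻¹ ((u⁻¹ : Cˣ) : C) = 1 := by
    rw [MonoidAlgebra.single_mul_single, mul_inv_cancel, Units.mul_inv]
    rfl
  calc S.rho ((u⁻¹ : Cˣ) : C) = S.rho ((u⁻¹ : Cˣ) : C) * (MonoidAlgebra.single g (u : C) *
        MonoidAlgebra.single g⁻¹ ((u⁻¹ : Cˣ) : C)) := by rw [h2, mul_one]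
    _ = _ := by rw [← mul_assoc, h1, one_mul]

/-- A retraction onto the invariants from a multiplicative family of homogeneous units. -/
theorem exists_retract (u : Γ →* Cˣ) (hu : ∀ g, S.Hom g (u g : C)) : Nonempty (C →ₐ[A] S.C0) := by
  classical
  let t : Γ →* C := (Units.coeHom C).comp u⁻¹
  refine ⟨(S.act t (AlgHom.id A C)).codRestrict S.C0 fun c => ?_⟩
  rw [S.act_apply']
  refine Subalgebra.sum_mem _ fun g _ => ?_
  have h1 : S.Hom (g * g⁻¹) (S.p g c * (((u g)⁻¹ : Cˣ) : C)) := (S.hom_p g c).mul (Hom.inv (hu g))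
  rw [mul_inv_cancel] at h1
  exact h1

end

section
variable {M : Type} [AddCommGroup M] [Module.Free ℤ M] {S : PtAct A C (Multiplicative M)}

/-- a multiplicative family of homogeneous units -/
theorem exists_units (h : ∀ g, ∃ u : Cˣ, S.Hom g (u : C)) :
    ∃ u : Multiplicative M →* Cˣ, ∀ g, S.Hom g (u g : C) := by
  classical
  choose v hv using h
  let b := Module.Free.chooseBasis ℤ M
  let χ : M →ₗ[ℤ] Additive Cˣ := b.constr ℤ fun i => Additive.ofMul (v (Multiplicative.ofAdd (b i)))
  let u : Multiplicative M →* Cˣ := AddMonoidHom.toMultiplicativeLeft χ.toAddMonoidHom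
  let H : AddSubgroup M :=
    { carrier := {m | S.Hom (Multiplicative.ofAdd m) (u (Multiplicative.ofAdd m) : C)}
      zero_mem' := by
        change S.Hom 1 ((u 1 : Cˣ) : C)
        rw [map_one]
        exact Hom.one
      add_mem' := fun {x y} hx hy => by
        change S.Hom (Multiplicative.ofAdd x * Multiplicative.ofAdd y)
          ((u (Multiplicative.ofAdd x * Multiplicative.ofAdd y) : Cˣ) : C)
        rw [map_mul]
        exact Hom.mul hx hy
      neg_mem' := fun {x} hx => by
        change S.Hom (Multiplicative.ofAdd x)⁻¹ ((u (Multiplicative.ofAdd x)⁻¹ : Cˣ) : C)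
        rw [map_inv]
        exact Hom.inv hx }
  have hb : ∀ i, b i ∈ H := by
    intro i
    change S.Hom (Multiplicative.ofAdd (b i)) ((u (Multiplicative.ofAdd (b i)) : Cˣ) : C)
    have h1 : u (Multiplicative.ofAdd (b i)) = v (Multiplicative.ofAdd (b i)) := by
      change Additive.toMul (χ (b i)) = _
      rw [Module.Basis.constr_basis]
      rfl
    rw [h1]
    exact hv _
  have hH : ∀ m : M, m ∈ H := by
    intro m
    have h1 : (⊤ : Submodule ℤ M) ≤ AddSubgroup.toIntSubmodule H := by
      rw [← b.span_eq, Submodule.span_le]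
      rintro _ ⟨i, rfl⟩
      exact hb i
    exact h1 (Submodule.mem_top (x := m))
  exact ⟨u, fun g => hH g.toAdd⟩

/-- **Sections after a finite étale covering.** -/
theorem LocSplit.exists_section (h : LocSplit S) (hA : {m : Ideal A | m.IsMaximal}.Finite) :
    ∃ (A₁ : Type u) (_ : CommRing A₁) (_ : Algebra A A₁), Module.Finite A A₁ ∧ Algebra.Etale A A₁ ∧
      Function.Surjective (PrimeSpectrum.comap (algebraMap A A₁)) ∧ Nonempty (C →ₐ[A] A₁) := by
  obtain ⟨h1, h2⟩ := h.finite_etale
  have h3 := finite_maximalSpectrum (A := A) (B := S.C0) hA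
  obtain ⟨u, hu⟩ := exists_units fun g => exists_unit g (h.one_mem_NN g)
  exact ⟨S.C0, inferInstance, inferInstance, h1, h2, h.comap_surjective, exists_retract u hu⟩

end

end PtAct

end Groth.Agent.RedSub.H668
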