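import Groth.Agent.Books.BorelOrb
import Groth.Agent.Etbase.FpqcDescent
import Groth.Prelude.Def_RedSub

/-!
# Torsors under group schemes: points, descent of properties

`a : AlgGrp.Action G X` with `RedSub.IsTorsor a`.  `dif ha x x' : Y ⟶ G` is the point with
`dif x x' • x' = x`.
-/

set_option autoImplicit false
universe u

open CategoryTheory CategoryTheory.Limits MonoidalCategory CartesianMonoidalCategory MonObj GrpObj AlgebraicGeometry
open Groth.Agent.Books.BorelOrb

namespace Groth.Agent.RedSub.H668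

variable {S : Scheme.{u}} {G X : Over S} [GrpObj G] {a : AlgGrp.Action G X}

/-- the point of `G` carrying `x'` to `x` -/
noncomputable def dif (ha : RedSub.IsTorsor a) {Y : Over S} (x x' : Y ⟶ X) : Y ⟶ G :=
  haveI := ha.2.2.2
  lift x x' ≫ inv (lift a.act (snd G X)) ≫ fst G X

lemma sm_dif (ha : RedSub.IsTorsor a) {Y : Over S} (x x' : Y ⟶ X) : sm a (dif ha x x') x' = x := by
  have := ha.2.2.2
  have h1 : lift (dif ha x x') x' = lift x x' ≫ inv (lift a.act (snd G X)) := by
    apply CartesianMonoidalCategory.hom_ext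
    · rw [lift_fst]; simp [dif]
    · rw [lift_snd, Category.assoc]
      have h2 : inv (lift a.act (snd G X)) ≫ snd G X = snd X X := by
        rw [IsIso.inv_comp_eq, lift_snd]
      rw [h2, lift_snd]
  rw [sm, h1, Category.assoc]
  have h3 : inv (lift a.act (snd G X)) ≫ a.act = fst X X := by
    rw [IsIso.inv_comp_eq, lift_fst]
  rw [h3, lift_fst]

lemma sm_injective (ha : RedSub.IsTorsor a) {Y : Over S} {g g' : Y ⟶ G} (x : Y ⟶ X)
    (h : sm a g x = sm a g' x) : g = g' := by
  have := ha.2.2.2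
  have h1 : lift g x ≫ lift a.act (snd G X) = lift g' x ≫ lift a.act (snd G X) := by
    rw [comp_lift, comp_lift, lift_snd, lift_snd]
    congr 1
  rw [cancel_mono] at h1
  have h2 := congrArg (· ≫ fst G X) h1
  simpa using h2

lemma dif_eq (ha : RedSub.IsTorsor a) {Y : Over S} {x x' : Y ⟶ X} {g : Y ⟶ G} (h : sm a g x' = x) :
    dif ha x x' = g := sm_injective ha x' ((sm_dif ha x x').trans h.symm)

lemma dif_self (ha : RedSub.IsTorsor a) {Y : Over S} (x : Y ⟶ X) : dif ha x x = 1 :=
  dif_eq ha (one_sm a x)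

lemma dif_mul_dif (ha : RedSub.IsTorsor a) {Y : Over S} (x y z : Y ⟶ X) :
    dif ha x y * dif ha y z = dif ha x z :=
  (dif_eq ha (by rw [mul_sm, sm_dif, sm_dif])).symm

lemma dif_sm_left (ha : RedSub.IsTorsor a) {Y : Over S} (g : Y ⟶ G) (x y : Y ⟶ X) :
    dif ha (sm a g x) y = g * dif ha x y :=
  dif_eq ha (by rw [mul_sm, sm_dif])

lemma dif_sm_right (ha : RedSub.IsTorsor a) {Y : Over S} (g : Y ⟶ G) (x y : Y ⟶ X) :
    dif ha x (sm a g y) = dif ha x y * g⁻¹ :=
  dif_eq ha (by rw [mul_sm, ← mul_sm a g⁻¹, inv_mul_cancel, one_sm, sm_dif])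

lemma comp_dif (ha : RedSub.IsTorsor a) {Y Y' : Over S} (f : Y' ⟶ Y) (x x' : Y ⟶ X) :
    f ≫ dif ha x x' = dif ha (f ≫ x) (f ≫ x') :=
  (dif_eq ha (by rw [← comp_sm, sm_dif])).symm

lemma dif_inv (ha : RedSub.IsTorsor a) {Y : Over S} (x x' : Y ⟶ X) : (dif ha x x')⁻¹ = dif ha x' x := by
  rw [inv_eq_iff_mul_eq_one, dif_mul_dif, dif_self]

/-- Properties of `G` which descend along flat coverings are inherited by the torsor. -/
theorem prop_of_torsor (ha : RedSub.IsTorsor a) (P : MorphismProperty Scheme.{u})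
    [P.IsStableUnderBaseChange] [P.DescendsAlong (@Surjective ⊓ @Flat ⊓ @LocallyOfFinitePresentation)]
    (hG : P G.hom) : P X.hom := by
  have h1 : P (snd X X).left := by
    have h2 : P (snd G X).left := P.pullback_snd _ _ hG
    have := ha.2.2.2
    have h3 : (lift a.act (snd G X)).left ≫ (snd X X).left = (snd G X).left := by
      rw [← Over.comp_left, lift_snd]
    rw [← h3] at h2
    have h4 : IsIso (lift a.act (snd G X)).left :=
      inferInstanceAs (IsIso ((Over.forget S).map (lift a.act (snd G X))))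
    exact (P.cancel_left_of_respectsIso _ _).1 h2
  exact MorphismProperty.of_pullback_snd_of_descendsAlong (P := P)
    (Q := @Surjective ⊓ @Flat ⊓ @LocallyOfFinitePresentation) (f := X.hom) (g := X.hom)
    ⟨⟨ha.1, ha.2.1⟩, ha.2.2.1⟩ h1

theorem isAffineHom_of_torsor (ha : RedSub.IsTorsor a) (hG : IsAffineHom G.hom) : IsAffineHom X.hom :=
  prop_of_torsor ha @IsAffineHom hG

theorem smooth_of_torsor (ha : RedSub.IsTorsor a) (hG : Smooth G.hom) : Smooth X.hom :=
  prop_of_torsor ha @Smooth hG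

end Groth.Agent.RedSub.H668
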