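import Groth.Agent.RedSub.H668.Rep
import Mathlib.RingTheory.Etale.Descent
import Mathlib.RingTheory.Finiteness.Descent
import Mathlib.RingTheory.Etale.Pi
import Mathlib.LinearAlgebra.TensorProduct.RightExactness

/-!
# The universal point

`A'` a faithfully flat `A`-algebra over which `Spec C` is the disjoint union of the free orbits of the
`e w`.  Then `C₀` (invariants) is finite étale over `A`, and `C_g C_{g⁻¹} = C₀` for all `g`.
-/

set_option autoImplicit false
universe u

open TensorProduct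

namespace Groth.Agent.RedSub.H668

variable {A C : Type u} [CommRing A] [CommRing C] [Algebra A C] {Γ : Type} [CommGroup Γ]

namespace PtAct

variable (S : PtAct A C Γ) (A' : Type u) [CommRing A'] [Algebra A A']

/-- the inclusion of `A'` -/
noncomputable abbrev jj : A' →ₐ[A] A' ⊗[A] C := Algebra.TensorProduct.includeLeft

/-- the inclusion of `C` -/
noncomputable abbrev xx : C →ₐ[A] A' ⊗[A] C := Algebra.TensorProduct.includeRight

/-- the coaction on `A' ⊗ C` -/
noncomputable def RR : A' ⊗[A] C →ₐ[A] MonoidAlgebra (A' ⊗[A] C) Γ :=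
  Algebra.TensorProduct.lift ((inc A (A' ⊗[A] C) Γ).comp (jj A'))
    (S.act (MonoidAlgebra.of (A' ⊗[A] C) Γ) ((inc A (A' ⊗[A] C) Γ).comp (xx A')))
    (fun _ _ => Commute.all _ _)

lemma RR_comp_jj : (S.RR A').comp (jj A') = (inc A (A' ⊗[A] C) Γ).comp (jj A') := by
  ext a
  simp [RR]

lemma RR_comp_xx : (S.RR A').comp (xx A') =
    S.act (MonoidAlgebra.of (A' ⊗[A] C) Γ) ((inc A (A' ⊗[A] C) Γ).comp (xx A')) := by
  ext a
  simp [RR]

lemma coeff_RR (g : Γ) (z : A' ⊗[A] C) : (S.RR A' z).coeff g = (S.p g).lTensor A' z := by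
  classical
  induction z using TensorProduct.induction_on with
  | zero => rw [map_zero, map_zero]; rfl
  | add a b ha hb => rw [map_add, map_add, ← ha, ← hb]; rfl
  | tmul a c =>
    have h1 : S.RR A' (a ⊗ₜ c) = inc A (A' ⊗[A] C) Γ (jj A' a) *
        S.act (MonoidAlgebra.of (A' ⊗[A] C) Γ) ((inc A (A' ⊗[A] C) Γ).comp (xx A')) c :=
      Algebra.TensorProduct.lift_tmul _ _ _ _ _
    rw [h1, S.act_apply', Finset.mul_sum]
    have h2 : ∀ h, inc A (A' ⊗[A] C) Γ (jj A' a) * (((inc A (A' ⊗[A] C) Γ).comp (xx A')) (S.p h c) *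
        MonoidAlgebra.of (A' ⊗[A] C) Γ h) = MonoidAlgebra.single h (a ⊗ₜ[A] S.p h c) := by
      intro h
      change MonoidAlgebra.single 1 (a ⊗ₜ[A] (1 : C)) * (MonoidAlgebra.single 1 ((1 : A') ⊗ₜ[A] S.p h c) *
        MonoidAlgebra.single h 1) = _
      rw [MonoidAlgebra.single_mul_single, MonoidAlgebra.single_mul_single, one_mul, one_mul, mul_one,
        Algebra.TensorProduct.tmul_mul_tmul, one_mul, mul_one]
    rw [Finset.sum_congr rfl fun h _ => h2 h, MonoidAlgebra.coeff_sum, Finsupp.finsetSum_apply,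
      LinearMap.lTensor_tmul]
    by_cases hs : g ∈ (S.rho c).coeff.support
    · rw [Finset.sum_eq_single_of_mem g hs]
      · exact Finsupp.single_eq_same
      · intro b _ hb
        exact Finsupp.single_eq_of_ne hb.symm
    · rw [Finset.sum_eq_zero]
      · rw [Finsupp.notMem_support_iff] at hs
        rw [S.p_apply, hs, TensorProduct.tmul_zero]
      · intro b hb'
        refine Finsupp.single_eq_of_ne (fun e => hs ?_)
        rw [e]
        exact hb'

variable {A'} {W : Type} [Fintype W] {e : W → (C →ₐ[A] A')}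

/-- the data attached to the universal point are homogeneous -/
theorem exists_univ (hI : Inj S e) (hL : Loc S e) : ∃ (ε : W → A' ⊗[A] C) (t : Γ →* A' ⊗[A] C),
    Rep S e (jj A') (xx A') ε t ∧ (∀ w, (S.p 1).lTensor A' (ε w) = ε w) ∧
      ∀ g, (S.p g).lTensor A' (t g) = t g := by
  obtain ⟨ε, t, h⟩ := exists_rep hI hL (jj A') (xx (C := C) A')
  refine ⟨ε, t, h, ?_, ?_⟩
  all_goals
    have h1 := h.map (S.RR A')
    have h2 := (h.map (inc A (A' ⊗[A] C) Γ)).act (MonoidAlgebra.of (A' ⊗[A] C) Γ)
    rw [RR_comp_jj, RR_comp_xx] at h1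
    obtain ⟨h3, h4⟩ := Rep.unique hI h1 h2
  · intro w
    rw [← coeff_RR]
    have h5 : S.RR A' (ε w) = MonoidAlgebra.single 1 (ε w) := congrFun h3 w
    rw [h5]
    exact Finsupp.single_eq_same
  · intro g
    rw [← coeff_RR]
    have h5 : S.RR A' (t g) = MonoidAlgebra.of (A' ⊗[A] C) Γ g * MonoidAlgebra.single 1 (t g) :=
      DFunLike.congr_fun h4 g
    rw [h5]
    change (MonoidAlgebra.single g 1 * MonoidAlgebra.single 1 (t g)).coeff g = _
    rw [MonoidAlgebra.single_mul_single, one_mul, mul_one]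
    exact Finsupp.single_eq_same

/-- descent of membership in a submodule -/
lemma mem_of_ff [Module.FaithfullyFlat A A'] (N : Submodule A C) (c : C)
    (h : (1 : A') ⊗ₜ[A] c ∈ LinearMap.range (N.subtype.lTensor A')) : c ∈ N := by
  obtain ⟨z, hz⟩ := h
  rw [← Submodule.Quotient.mk_eq_zero]
  apply Module.FaithfullyFlat.tensorProduct_mk_injective (A := A) (B := A') (C ⧸ N)
  rw [map_zero]
  change (1 : A') ⊗ₜ[A] (N.mkQ c) = 0
  rw [← LinearMap.lTensor_tmul, ← hz, ← LinearMap.comp_apply, ← LinearMap.lTensor_comp]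
  have : N.mkQ ∘ₗ N.subtype = 0 := by
    ext x
    simp
  rw [this, LinearMap.lTensor_zero, LinearMap.zero_apply]

/-- the span of the products of homogeneous elements of degrees `g` and `g⁻¹` -/
def NN (g : Γ) : Submodule A C :=
  Submodule.span A {c | ∃ a b, S.Hom g a ∧ S.Hom g⁻¹ b ∧ c = a * b}

/-- an element of degree `g` of `A' ⊗ C` is a combination of elements of degree `g` -/
lemma mem_span_of_lTensor (g : Γ) (z : A' ⊗[A] C) :
    (S.p g).lTensor A' z ∈ Submodule.span A {y : A' ⊗[A] C | ∃ a c, S.Hom g c ∧ y = a ⊗ₜ c} := by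
  induction z using TensorProduct.induction_on with
  | zero => rw [map_zero]; exact Submodule.zero_mem _
  | add a b ha hb => rw [map_add]; exact Submodule.add_mem _ ha hb
  | tmul a c => exact Submodule.subset_span ⟨a, _, S.hom_p g c, LinearMap.lTensor_tmul _ _ _ _⟩

lemma mul_mem_range_NN (g : Γ) (z z' : A' ⊗[A] C)
    (hz : z ∈ Submodule.span A {y : A' ⊗[A] C | ∃ a c, S.Hom g c ∧ y = a ⊗ₜ c})
    (hz' : z' ∈ Submodule.span A {y : A' ⊗[A] C | ∃ a c, S.Hom g⁻¹ c ∧ y = a ⊗ₜ c}) :
    z * z' ∈ LinearMap.range ((S.NN g).subtype.lTensor A') := by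
  induction hz using Submodule.span_induction with
  | zero => rw [zero_mul]; exact Submodule.zero_mem _
  | add a b _ _ ha hb => rw [add_mul]; exact Submodule.add_mem _ ha hb
  | smul r a _ ha => rw [smul_mul_assoc]; exact Submodule.smul_mem _ _ ha
  | mem y hy =>
    obtain ⟨a, c, hc, rfl⟩ := hy
    induction hz' using Submodule.span_induction with
    | zero => rw [mul_zero]; exact Submodule.zero_mem _
    | add a b _ _ ha hb => rw [mul_add]; exact Submodule.add_mem _ ha hb
    | smul r a _ ha => rw [mul_smul_comm]; exact Submodule.smul_mem _ _ ha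
    | mem y hy =>
      obtain ⟨a', c', hc', rfl⟩ := hy
      rw [Algebra.TensorProduct.tmul_mul_tmul]
      exact ⟨(a * a') ⊗ₜ ⟨c * c', Submodule.subset_span ⟨c, c', hc, hc', rfl⟩⟩, by
        rw [LinearMap.lTensor_tmul]; rfl⟩

/-- **Products of homogeneous elements of opposite degrees generate the unit ideal.** -/
theorem one_mem_NN [Module.FaithfullyFlat A A'] (hI : Inj S e) (hL : Loc S e) (g : Γ) :
    (1 : C) ∈ S.NN g := by
  obtain ⟨ε, t, h, -, ht⟩ := S.exists_univ hI hL
  refine mem_of_ff (A' := A') _ _ ?_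
  have h1 : (1 : A') ⊗ₜ[A] (1 : C) = t g * t g⁻¹ := by
    rw [← map_mul, mul_inv_cancel, map_one]
    rfl
  rw [h1]
  refine S.mul_mem_range_NN _ _ _ ?_ ?_
  · rw [← ht g]; exact S.mem_span_of_lTensor g _
  · rw [← ht g⁻¹]; exact S.mem_span_of_lTensor g⁻¹ _

/-- projection to the invariants -/
noncomputable def p0 : C →ₗ[A] S.C0 := (S.p 1).codRestrict (Subalgebra.toSubmodule S.C0) (fun c => S.hom_p 1 c)

/-- the evaluation at `e w` -/
noncomputable def EE (w : W) : A' ⊗[A] C →ₐ[A'] A' :=
  Algebra.TensorProduct.lift (AlgHom.id A' A') (e w) (fun _ _ => Commute.all _ _)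

/-- evaluation of the invariants at the points `e w` -/
noncomputable def alpha (e : W → (C →ₐ[A] A')) : A' ⊗[A] S.C0 →ₐ[A'] (W → A') :=
  AlgHom.pi fun w => (EE (e := e) w).comp (Algebra.TensorProduct.map (AlgHom.id A' A') S.C0.val)

theorem alpha_bijective (hI : Inj S e) (hL : Loc S e) : Function.Bijective (S.alpha e) := by
  classical
  obtain ⟨ε, t, h, hε, -⟩ := S.exists_univ hI hL
  let ι : A' ⊗[A] S.C0 →ₐ[A'] A' ⊗[A] C := Algebra.TensorProduct.map (AlgHom.id A' A') S.C0.val
  let r : A' ⊗[A] C →ₗ[A] A' ⊗[A] S.C0 := S.p0.lTensor A'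
  have hr : ∀ z, r (ι z) = z := by
    intro z
    induction z using TensorProduct.induction_on with
    | zero => rw [map_zero, map_zero]
    | add a b ha hb => rw [map_add, map_add, ha, hb]
    | tmul a c =>
      change S.p0.lTensor A' (a ⊗ₜ (c : C)) = _
      rw [LinearMap.lTensor_tmul]
      congr 1
      exact Subtype.ext (Hom.p_same c.2)
  have hr' : ∀ z, ι (r z) = (S.p 1).lTensor A' z := by
    intro z
    induction z using TensorProduct.induction_on with
    | zero => rw [map_zero, map_zero, map_zero]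
    | add a b ha hb => rw [map_add, map_add, map_add, ha, hb]
    | tmul a c => rfl
  have hdelta : ∀ w w', EE (e := e) w' (ε w) = if w' = w then 1 else 0 := by
    intro w w'
    let E' : A' ⊗[A] C →ₐ[A] A' := (EE (e := e) w').restrictScalars A
    have h1 := h.map E'
    have h2 : E'.comp (jj A') = AlgHom.id A A' := by
      ext a
      change EE (e := e) w' (a ⊗ₜ 1) = a
      simp [EE]
    have h3 : E'.comp (xx A') = e w' := by
      ext a
      change EE (e := e) w' (1 ⊗ₜ a) = _
      simp [EE]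
    rw [h2, h3] at h1
    have h4 : Rep S e (AlgHom.id A A') (e w') (fun w => if w' = w then 1 else 0) 1 := by
      refine ⟨⟨⟨fun v => ?_, fun v v' hv => ?_⟩, ?_⟩, fun c => ?_⟩
      · by_cases hk : w' = v <;> simp [hk, IsIdempotentElem]
      · by_cases hk : w' = v
        · have : w' ≠ v' := fun h => hv (hk.symm.trans h)
          simp [this]
        · simp [hk]
      · simp
      · simp only [ite_mul, one_mul, zero_mul, Finset.sum_ite_eq, Finset.mem_univ, if_true]
        rw [S.one_act]
        rfl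
    have h5 := (Rep.unique hI h1 h4).1
    exact congrFun h5 w
  have hsum : ∀ z, ι z = ∑ w, ε w * jj A' (S.alpha e z w) := by
    intro z
    induction z using TensorProduct.induction_on with
    | zero => simp
    | add a b ha hb =>
      rw [map_add, ha, hb, ← Finset.sum_add_distrib]
      refine Finset.sum_congr rfl fun w _ => ?_
      rw [← mul_add, ← map_add, map_add (S.alpha e)]
      rfl
    | tmul a c =>
      have h1 : ι (a ⊗ₜ c) = jj A' a * xx A' (c : C) := by
        change a ⊗ₜ[A] (c : C) = (a ⊗ₜ[A] (1 : C)) * ((1 : A') ⊗ₜ[A] (c : C))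
        rw [Algebra.TensorProduct.tmul_mul_tmul, mul_one, one_mul]
      rw [h1, h.2, Finset.mul_sum]
      refine Finset.sum_congr rfl fun w _ => ?_
      rw [Hom.act c.2, map_one, mul_one]
      have h2 : S.alpha e (a ⊗ₜ c) w = a * e w c := by
        change EE (e := e) w (a ⊗ₜ (c : C)) = _
        simp [EE]
      rw [h2, map_mul]
      change _ * (_ * jj A' (e w c)) = _
      ring
  refine ⟨?_, ?_⟩
  · rw [injective_iff_map_eq_zero]
    intro z hz
    rw [← hr z, hsum z, hz]
    simp
  · intro f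
    refine ⟨∑ w, f w • r (ε w), ?_⟩
    rw [map_sum]
    funext w'
    rw [Finset.sum_apply]
    have h1 : ∀ w, S.alpha e (f w • r (ε w)) w' = if w' = w then f w else 0 := by
      intro w
      rw [map_smul, Pi.smul_apply, smul_eq_mul]
      have h2 : S.alpha e (r (ε w)) w' = EE (e := e) w' (ι (r (ε w))) := rfl
      rw [h2, hr', hε, hdelta]
      split_ifs <;> simp
    rw [Finset.sum_congr rfl fun w _ => h1 w, Finset.sum_ite_eq, if_pos (Finset.mem_univ _)]

/-- `A' ⊗ C₀ ≃ A'^W` -/
noncomputable def alphaEquiv (hI : Inj S e) (hL : Loc S e) : A' ⊗[A] S.C0 ≃ₐ[A'] (W → A') :=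
  AlgEquiv.ofBijective (S.alpha e) (S.alpha_bijective hI hL)

end PtAct

end Groth.Agent.RedSub.H668
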